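import Groth.Agent.Hopf.Cochar.Lattice

/-!
Split subtori of maximal rank.
-/

set_option autoImplicit false
universe u

open CategoryTheory CategoryTheory.Limits MonoidalCategory CartesianMonoidalCategory MonObj GrpObj AlgebraicGeometry
open Groth.Reductive Groth.Reductive.FreeDiag

noncomputable section

namespace Groth.Cochar

variable {S : Scheme.{u}} {G : Over S} [GrpObj G]

/-- The comparison of the diagonalisable group with its base change. -/
def bcDS {T : Scheme.{u}} (j : T ⟶ S) (N : Type) [AddCommGroup N] : Red.DS T N ≅ Red.bc j (Red.DS S N) where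
  hom := (bcPointEquiv j (Red.DS S N) _).symm (dsPtEquiv j N _ (𝟙 _))
  inv := (dsPtEquiv j N _).symm (bcPointEquiv j (Red.DS S N) _ (𝟙 _))
  hom_inv_id := by
    apply (dsPtEquiv j N _).injective
    rw [dsPtEquiv_comp, MulEquiv.apply_symm_apply, ← bcPointEquiv_comp, Category.comp_id,
      MulEquiv.apply_symm_apply]
  inv_hom_id := by
    apply (bcPointEquiv j _ _).injective
    rw [bcPointEquiv_comp, MulEquiv.apply_symm_apply, ← dsPtEquiv_comp, Category.comp_id,
      MulEquiv.apply_symm_apply]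

theorem comp_bcDS {T : Scheme.{u}} (j : T ⟶ S) (N : Type) [AddCommGroup N] {Z : Over T} (x : Z ⟶ Red.DS T N) :
    x ≫ (bcDS j N).hom = (bcPointEquiv j (Red.DS S N) Z).symm (dsPtEquiv j N Z x) := by
  apply (bcPointEquiv j _ Z).injective
  simp only [bcDS]
  rw [bcPointEquiv_comp, MulEquiv.apply_symm_apply, MulEquiv.apply_symm_apply, ← dsPtEquiv_comp, Category.comp_id]

instance isMonHom_bcDS_hom {T : Scheme.{u}} (j : T ⟶ S) (N : Type) [AddCommGroup N] :
    IsMonHom (bcDS j N).hom :=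
  Groth.AlgGrp1.isMonHom_of_points _ fun Z x y => by simp only [comp_bcDS, map_mul]

instance isMonHom_bcDS_inv {T : Scheme.{u}} (j : T ⟶ S) (N : Type) [AddCommGroup N] :
    IsMonHom (bcDS j N).inv :=
  Groth.AlgGrp1.isMonHom_of_points _ fun Z x y => by
    rw [← cancel_mono (bcDS j N).hom, Category.assoc, (bcDS j N).inv_hom_id, Category.comp_id]
    have := isMonHom_bcDS_hom j N
    refine Eq.trans ?_ (MonObj.mul_comp _ _ _).symm
    rw [Category.assoc, Category.assoc, (bcDS j N).inv_hom_id, Category.comp_id, Category.comp_id]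

/-- A base change of a split torus is split. -/
theorem exists_iso_bc_DS {T : Scheme.{u}} (j : T ⟶ S) (N : Type) [AddCommGroup N] :
    ∃ i : Red.DS T N ≅ Red.bc j (Red.DS S N), IsMonHom i.hom ∧ IsMonHom i.inv :=
  ⟨bcDS j N, inferInstance, inferInstance⟩

theorem isSplitTorusWith_bc {T : Scheme.{u}} (j : T ⟶ S) (N : Type) [AddCommGroup N] :
    Red.IsSplitTorusWith N (Red.bc j (Red.DS S N)) := by
  obtain ⟨i, h1, h2⟩ := exists_iso_bc_DS j N
  exact ⟨Grp.mkIso i.symm h2.one_hom h2.mul_hom⟩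

/-- A monomorphism between split tori of the same rank is an isomorphism. -/
theorem isIso_of_mono_endo {r : ℕ} (w : Red.DS S (Fin r → ℤ) ⟶ Red.DS S (Fin r → ℤ)) [IsMonHom w] [Mono w] :
    IsIso w := by
  refine isIso_of_fibres (isMultTypeFT_DS (fg_pi r)) (isMultTypeFT_DS (fg_pi r)) w fun s => ?_
  obtain ⟨e⟩ := isSplitTorusWith_bc (Red.geomPt s) (Fin r → ℤ)
  haveI : Mono ((Over.pullback (Red.geomPt s)).map w) := inferInstance
  exact isIso_of_mono_of_split e e _

/-- At a point, a monomorphism gives a surjective map of characters. -/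
theorem Pt.surjective_char (P : Pt G) {N : Type} [AddCommGroup N] (φ : Red.DS S N ⟶ G) [IsMonHom φ] [Mono φ] :
    Function.Surjective (P.char φ) := by
  have : Mono (P.res φ) := ⟨fun {Z} x y h => by
    rw [P.comp_res, P.comp_res, cancel_mono, EmbeddingLike.apply_eq_iff_eq, cancel_mono] at h
    exact (dsPtEquiv P.p N Z).injective h⟩
  rw [P.res_eq] at this
  haveI := (Over.forget _).map_mono (dsHom (T := Spec (CommRingCat.of P.L)) (P.char φ))
  exact @surjective_of_mono_dsHom _ _ _ _ P.L _ (P.char φ) this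

theorem Pt.rank_le (P : Pt G) {r : ℕ} (φ : Red.DS S (Fin r → ℤ) ⟶ G) [IsMonHom φ] [Mono φ] :
    r ≤ Module.finrank ℤ P.M := by
  have : Module.Finite ℤ P.M := Module.Finite.iff_addGroup_fg.mpr P.fg
  simpa using LinearMap.finrank_le_finrank_of_surjective (f := (P.char φ).toIntLinearMap) (P.surjective_char φ)

/-- A split subtorus of maximal rank. -/
theorem exists_maxRank (hG : SGA3x.IsMultTypeFT G) :
    ∃ (r : ℕ) (Φ : Red.DS S (Fin r → ℤ) ⟶ G) (_ : IsMonHom Φ), Mono Φ ∧
      ∀ (r' : ℕ) (ψ : Red.DS S (Fin r' → ℤ) ⟶ G) (g : Red.DS S (Fin r → ℤ) ⟶ Red.DS S (Fin r' → ℤ))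
        [IsMonHom ψ] [IsMonHom g] [Mono ψ], g ≫ ψ = Φ → IsIso g := by
  classical
  have h0m : ∀ (f : Red.DS S (Fin 0 → ℤ) ⟶ G), Mono f := fun f => ⟨fun x y _ => dsVal_ext fun m => by
    rw [Subsingleton.elim m 1, ← dsValHom_apply, ← dsValHom_apply, map_one, map_one]⟩
  rcases isEmpty_or_nonempty S with he | hne
  · have := isMonHom_one (G := G) (H := Red.DS S (Fin 0 → ℤ))
    refine ⟨0, 1, this, h0m _, fun r' ψ g _ _ _ _ => ?_⟩
    have h1 : IsEmpty (Red.DS S (Fin 0 → ℤ)).left := Function.isEmpty (Red.DS S (Fin 0 → ℤ)).hom.base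
    have h2 : IsEmpty (Red.DS S (Fin r' → ℤ)).left := Function.isEmpty (Red.DS S (Fin r' → ℤ)).hom.base
    haveI : IsIso ((Over.forget S).map g) :=
      isIso_of_isInitial (@isInitialOfIsEmpty _ h1) (@isInitialOfIsEmpty _ h2) g.left
    exact isIso_of_reflects_iso g (Over.forget S)
  · obtain ⟨P⟩ := nonempty_pt hG
    let Q : ℕ → Prop := fun r => ∃ (Φ : Red.DS S (Fin r → ℤ) ⟶ G) (_ : IsMonHom Φ), Mono Φ
    have hb : ∀ r, Q r → r ≤ Module.finrank ℤ P.M := fun r ⟨Φ, _, _⟩ => P.rank_le Φ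
    have hQ0 : Q 0 := ⟨1, isMonHom_one, h0m _⟩
    let r := Nat.findGreatest Q (Module.finrank ℤ P.M)
    obtain ⟨Φ, hΦ, hΦm⟩ : Q r := Nat.findGreatest_spec (Nat.zero_le _) hQ0
    refine ⟨r, Φ, hΦ, hΦm, fun r' ψ g _ _ _ hg => ?_⟩
    have hle : r' ≤ r := Nat.le_findGreatest (hb r' ⟨ψ, inferInstance, inferInstance⟩) ⟨ψ, inferInstance, inferInstance⟩
    haveI : Mono (g ≫ ψ) := by rw [hg]; exact hΦm
    haveI : Mono g := mono_of_mono g ψ
    obtain ⟨i, _, _⟩ := exists_iso_bc_DS P.p (Fin r' → ℤ)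
    have hge : r ≤ r' := by
      simpa using ({ L := P.L, p := P.p, M := Fin r' → ℤ, fg := fg_pi r', i := i } :
        Pt (Red.DS S (Fin r' → ℤ))).rank_le g
    obtain rfl : r' = r := le_antisymm hle hge
    exact isIso_of_mono_endo g

end Groth.Cochar

namespace Groth.Cochar

/-- A morphism is a homomorphism if its composite with a monomorphic homomorphism is one. -/
theorem isMonHom_of_comp {S : Scheme.{u}} {T T' G : Over S} [GrpObj T] [GrpObj T'] [GrpObj G]
    (g : T ⟶ T') (j' : T' ⟶ G) [IsMonHom j'] [Mono j'] (j : T ⟶ G) [IsMonHom j] (h : g ≫ j' = j) : IsMonHom g :=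
  Groth.AlgGrp1.isMonHom_of_points _ fun Z a b => by
    rw [← cancel_mono j', Category.assoc, h, MonObj.mul_comp, MonObj.mul_comp, Category.assoc, Category.assoc, h]

end Groth.Cochar
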