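import Groth.Agent.Agf.ClosedSubgroup
import Groth.Agent.Agf.SubobjGrp
import Groth.Agent.AlgGrp2.Basic
import Groth.Agent.AlgGrp2.ConstFun
import Groth.Agent.Flatmor4.ImageDom
import Groth.Agent.DescentBase.FlatTower
import Mathlib.AlgebraicGeometry.Morphisms.SchemeTheoreticallyDominant

/-!
Scheme-theoretic images of homomorphisms which are, locally on the base, faithfully flat onto
closed subschemes.
-/

set_option autoImplicit false
universe u

open CategoryTheory CategoryTheory.Limits MonoidalCategory CartesianMonoidalCategory MonObj GrpObj AlgebraicGeometry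

noncomputable section

namespace Groth.Cochar.Img

/-- Faithfully flat quasi-compact morphisms are scheme-theoretically dominant. -/
theorem dominant_of_flat_surjective {X Y : Scheme.{u}} (f : X ⟶ Y) [Flat f] [Surjective f] [QuasiCompact f] :
    IsSchemeTheoreticallyDominant f := by
  constructor
  ext U : 2
  rw [Scheme.Hom.ker_apply, Scheme.IdealSheafData.ideal_bot, Pi.bot_apply]
  refine (RingHom.injective_iff_ker_eq_bot _).mp ((injective_iff_map_eq_zero _).mpr fun s hs => ?_)
  haveI : Flat (f ∣_ U.1) := MorphismProperty.of_isPullback (isPullback_morphismRestrict f U.1).flip inferInstance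
  haveI : Surjective (f ∣_ U.1) := MorphismProperty.of_isPullback (isPullback_morphismRestrict f U.1).flip inferInstance
  haveI : QuasiCompact (f ∣_ U.1) := MorphismProperty.of_isPullback (isPullback_morphismRestrict f U.1).flip inferInstance
  haveI : Epi (f ∣_ U.1) := Flat.epi_of_flat_of_surjective _
  have hinj := Groth.AlgGrp2.ConstFun.appTop_injective_of_epi (f ∣_ U.1)
  apply U.1.topIso.commRingCatIsoToRingEquiv.symm.injective
  apply hinj
  rw [map_zero, map_zero]
  simp only [Scheme.Hom.appTop, morphismRestrict_app]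
  erw [← CommRingCat.comp_apply]
  simp only [Scheme.Hom.app_eq_appLE, Scheme.Hom.appLE_map]
  erw [Scheme.Hom.map_appLE]
  show (X.presheaf.map _).hom ((f.app U.1).hom s) = 0
  rw [hs, map_zero]

/-- Two factorisations into a dominant morphism followed by a closed immersion agree. -/
theorem exists_iso_of_factor {X C C' Y : Scheme.{u}} (d : X ⟶ C) (c : C ⟶ Y) (d' : X ⟶ C') (c' : C' ⟶ Y)
    [IsClosedImmersion c] [IsClosedImmersion c'] [IsSchemeTheoreticallyDominant d]
    [IsSchemeTheoreticallyDominant d'] (h : d ≫ c = d' ≫ c') :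
    ∃ e : C ≅ C', e.hom ≫ c' = c ∧ d ≫ e.hom = d' := by
  have hk : c'.ker = c.ker := by
    rw [← Scheme.IdealSheafData.map_bot c', ← d'.ker_eq_bot, Scheme.IdealSheafData.map_ker, ← h,
      ← Scheme.IdealSheafData.map_ker, d.ker_eq_bot, Scheme.IdealSheafData.map_bot]
  let l := IsClosedImmersion.lift c' c hk.le
  have hl : l ≫ c' = c := IsClosedImmersion.lift_fac _ _ _
  haveI : IsIso l := IsClosedImmersion.isIso_of_ker_eq c c' l hl hk.symm
  refine ⟨asIso l, hl, ?_⟩
  rw [← cancel_mono c', Category.assoc, asIso_hom, hl, h]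

variable {S : Scheme.{u}}

/-- Being faithfully flat quasi-compact. -/
def FQ {X Y : Scheme.{u}} (g : X ⟶ Y) : Prop := Flat g ∧ Surjective g ∧ QuasiCompact g

theorem FQ.pullback {X Y X' Y' : Scheme.{u}} {g : X ⟶ Y} {g' : X' ⟶ Y'} {a : X' ⟶ X} {b : Y' ⟶ Y}
    (sq : IsPullback a g' g b) (h : FQ g) : FQ g' :=
  ⟨MorphismProperty.of_isPullback sq h.1, MorphismProperty.of_isPullback sq h.2.1,
    MorphismProperty.of_isPullback sq h.2.2⟩

theorem FQ.comp {X Y Z : Scheme.{u}} {g : X ⟶ Y} {g' : Y ⟶ Z} (h : FQ g) (h' : FQ g') : FQ (g ≫ g') := by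
  obtain ⟨_, _, _⟩ := h
  obtain ⟨_, _, _⟩ := h'
  exact ⟨inferInstance, inferInstance, inferInstance⟩

/-- Flatness descends along a jointly surjective flat family. -/
theorem flat_of_jointly {X Y : Scheme.{u}} (g : X ⟶ Y)
    (h : ∀ y : X, ∃ (X' : Scheme.{u}) (a : X' ⟶ X) (_ : Flat a), y ∈ Set.range a ∧ Flat (a ≫ g)) : Flat g := by
  refine Flat.of_stalkMap _ fun y => ?_
  obtain ⟨X', f, _, ⟨x, rfl⟩, hfg⟩ := h y
  have h1 := Flat.stalkMap f x
  have h2 := Flat.stalkMap (f ≫ g) x
  rw [Scheme.Hom.stalkMap_comp] at h2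
  letI := (g.stalkMap (f x)).hom.toAlgebra
  letI := (f.stalkMap x).hom.toAlgebra
  letI := ((f.stalkMap x).hom.comp (g.stalkMap (f x)).hom).toAlgebra
  have : IsScalarTower (Y.presheaf.stalk (g (f x))) (X.presheaf.stalk (f x)) (X'.presheaf.stalk x) :=
    .of_algebraMap_eq' rfl
  have : Module.Flat (X.presheaf.stalk (f x)) (X'.presheaf.stalk x) := h1
  have : IsLocalHom (algebraMap (X.presheaf.stalk (f x)) (X'.presheaf.stalk x)) :=
    inferInstanceAs (IsLocalHom (f.stalkMap x).hom)
  have : Module.FaithfullyFlat (X.presheaf.stalk (f x)) (X'.presheaf.stalk x) :=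
    Module.FaithfullyFlat.of_flat_of_isLocalHom
  have : Module.Flat (Y.presheaf.stalk (g (f x))) (X'.presheaf.stalk x) := h2
  exact Groth.DescentBase.flat_of_flat_of_faithfullyFlat (Y.presheaf.stalk (g (f x))) (X.presheaf.stalk (f x))
    (X'.presheaf.stalk x)

/-- Kernels commute with flat base change. -/
theorem ker_of_isPullback_flat {X Y X' Y' : Scheme.{u}} {f : X ⟶ Y} {f' : X' ⟶ Y'} {a : X' ⟶ X} {b : Y' ⟶ Y}
    (sq : IsPullback a f' f b) [QuasiCompact f] [Flat b] : f'.ker = f.ker.comap b := by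
  haveI := Groth.Flatmor4.isSchemeTheoreticallyDominant_toImage f
  let t : X' ⟶ Limits.pullback b f.imageι :=
    pullback.lift f' (a ≫ f.toImage) (by rw [Category.assoc, f.toImage_imageι]; exact sq.w.symm)
  have sq' : IsPullback a t f.toImage (pullback.snd b f.imageι) := by
    refine IsPullback.of_bot ?_ (pullback.lift_snd _ _ _).symm (IsPullback.of_hasPullback b f.imageι).flip
    rw [pullback.lift_fst, f.toImage_imageι]
    exact sq
  haveI : IsSchemeTheoreticallyDominant t := IsSchemeTheoreticallyDominant.of_isPullback sq'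
  rw [Scheme.IdealSheafData.comap, ← pullback.lift_fst (f := b) (g := f.imageι) f' (a ≫ f.toImage)
    (by rw [Category.assoc, f.toImage_imageι]; exact sq.w.symm), Scheme.Hom.ker_comp]
  show t.ker.map (pullback.fst b f.imageι) = _
  rw [t.ker_eq_bot, Scheme.IdealSheafData.map_bot]

/-- Lift through a closed immersion along a faithfully flat morphism. -/
theorem exists_lift {W Y G K : Over S} (i : K ⟶ G) [IsClosedImmersion i.left] (a : Y ⟶ G) (w : W ⟶ Y)
    (hw : FQ w.left) (t : W ⟶ K) (h : t ≫ i = w ≫ a) : ∃ b : Y ⟶ K, b ≫ i = a := by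
  obtain ⟨_, _, _⟩ := hw
  haveI := dominant_of_flat_surjective w.left
  obtain ⟨E, c, hc, hE⟩ := Groth.Agf.exists_preimage a i
  obtain ⟨e, he⟩ := (hE W w).2 ⟨t, h.symm⟩
  have hk : c.left.ker = ⊥ := by
    rw [← le_bot_iff, ← w.left.ker_eq_bot, ← he, Over.comp_left]
    exact e.left.le_ker_comp c.left
  have : IsIso c.left := IsClosedImmersion.isIso_iff_ker_eq_bot.mpr hk
  have : IsIso ((Over.forget _).map c) := this
  have : IsIso c := isIso_of_reflects_iso c (Over.forget _)
  obtain ⟨b, hb⟩ := (hE Y (𝟙 Y)).1 ⟨inv c, IsIso.inv_hom_id c⟩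
  exact ⟨b, by rw [← hb, Category.id_comp]⟩

/-- Factorisation through a closed immersion descends along a jointly surjective flat family. -/
theorem exists_lift_of_family {Y G K : Over S} (i : K ⟶ G) [IsClosedImmersion i.left] (a : Y ⟶ G)
    (h : ∀ y : Y.left, ∃ (W : Over S) (w : W ⟶ Y) (_ : Flat w.left) (t : W ⟶ K),
      y ∈ Set.range w.left ∧ t ≫ i = w ≫ a) : ∃ b : Y ⟶ K, b ≫ i = a := by
  obtain ⟨E, c, hc, hE⟩ := Groth.Agf.exists_preimage a i
  haveI := hc
  haveI : Mono c.left := inferInstance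
  have hsurj : Surjective c.left := ⟨fun y => by
    obtain ⟨W, w, _, t, ⟨x, hx⟩, ht⟩ := h y
    obtain ⟨e, he⟩ := (hE W w).2 ⟨t, ht.symm⟩
    exact ⟨e.left x, by rw [← Scheme.Hom.comp_apply, ← Over.comp_left, he, hx]⟩⟩
  have hflat : Flat c.left := flat_of_jointly c.left fun z => by
    obtain ⟨W, w, hw, t, ⟨x, hx⟩, ht⟩ := h (c.left z)
    obtain ⟨e, he⟩ := (hE W w).2 ⟨t, ht.symm⟩
    have hel : e.left ≫ c.left = w.left := by rw [← Over.comp_left, he]
    have sq : IsPullback (𝟙 W.left) e.left w.left c.left := by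
      refine IsPullback.of_isLimit (PullbackCone.IsLimit.mk (f := w.left) (g := c.left)
        (fst := 𝟙 W.left) (snd := e.left) (by simp [hel]) (fun s => s.fst) (fun s => Category.comp_id _)
        (fun s => ?_) (fun s m hm _ => by simpa using hm))
      rw [← cancel_mono c.left, Category.assoc, hel, s.condition]
    haveI : Flat e.left := MorphismProperty.of_isPullback sq hw
    refine ⟨W.left, e.left, inferInstance, ⟨x, c.left.injective ?_⟩, ?_⟩
    · rw [← Scheme.Hom.comp_apply, hel, hx]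
    · rw [hel]; exact hw
  haveI := hflat
  haveI := hsurj
  haveI := dominant_of_flat_surjective c.left
  have : IsIso c.left := IsClosedImmersion.isIso_iff_ker_eq_bot.mpr c.left.ker_eq_bot
  have : IsIso ((Over.forget _).map c) := this
  have : IsIso c := isIso_of_reflects_iso c (Over.forget _)
  obtain ⟨b, hb⟩ := (hE Y (𝟙 Y)).1 ⟨inv c, IsIso.inv_hom_id c⟩
  exact ⟨b, by rw [← hb, Category.id_comp]⟩

/-- A faithfully flat image of a group is a subgroup. -/
theorem exists_grpObj {H G K : Over S} [GrpObj H] [GrpObj G] (f : H ⟶ G) [IsMonHom f] (i : K ⟶ G)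
    [IsClosedImmersion i.left] (g : H ⟶ K) (hgi : g ≫ i = f) (hg : FQ g.left) :
    ∃ _ : GrpObj K, IsMonHom i ∧ IsMonHom g := by
  have : Mono i.left := inferInstance
  have : Mono i := Over.mono_of_mono_left i
  have h1 := hg.pullback (Groth.AlgGrp2.isPullback_whiskerRight_fst H g).flip
  have h2 := hg.pullback (Groth.AlgGrp2.isPullback_whiskerLeft_snd K g).flip
  have h3 : FQ (g ▷ H ≫ K ◁ g).left := by rw [Over.comp_left]; exact h1.comp h2
  obtain ⟨m, hm⟩ := exists_lift i ((fst K K ≫ i) * (snd K K ≫ i)) (g ▷ H ≫ K ◁ g) h3 (μ[H] ≫ g) (by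
    rw [MonObj.comp_mul, Category.assoc, hgi, IsMonHom.mul_hom, Hom.mul_def]
    congr 1
    ext <;> simp [hgi])
  obtain ⟨v, hv⟩ := exists_lift i (i ≫ ι[G]) g hg (ι[H] ≫ g) (by
    rw [Category.assoc, hgi, GrpObj.inv_hom f, ← hgi, Category.assoc])
  have hmul : ∀ {T : Over S} (a b : T ⟶ K), (lift a b ≫ m) ≫ i = (a ≫ i) * (b ≫ i) := fun a b => by
    rw [Category.assoc, hm, MonObj.comp_mul, lift_fst_assoc, lift_snd_assoc]
  obtain ⟨inst, hi⟩ := Groth.Agf.exists_grpObj_of_subgroup i (fun T x => ∃ z : T ⟶ K, z ≫ i = x) (fun _ _ => Iff.rfl)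
    (fun T => ⟨toUnit T ≫ η[H] ≫ g, by rw [Category.assoc, Category.assoc, hgi, IsMonHom.one_hom, Hom.one_def]⟩)
    (fun T a b ⟨x, hx⟩ ⟨y, hy⟩ => ⟨lift x y ≫ m, by rw [hmul, hx, hy]⟩)
    (fun T a ⟨x, hx⟩ => ⟨x ≫ v, by rw [Category.assoc, hv, ← hx, Hom.inv_def, Category.assoc]⟩)
  refine ⟨inst, hi, ⟨?_, ?_⟩⟩
  · rw [← cancel_mono i, Category.assoc, hgi, IsMonHom.one_hom, IsMonHom.one_hom]
  · rw [← cancel_mono i, Category.assoc, hgi, IsMonHom.mul_hom, Category.assoc, IsMonHom.mul_hom i,
      MonoidalCategory.tensorHom_comp_tensorHom_assoc, hgi]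

/-- Local factorisations glue to a global one with a subgroup as image. -/
theorem exists_image {H G : Over S} [GrpObj H] [GrpObj G] (f : H ⟶ G) [IsMonHom f] [QuasiCompact f.left]
    (h : ∀ s : S, ∃ (U : Scheme.{u}) (j : U ⟶ S) (_ : Flat j) (C : Over U)
      (d : (Over.pullback j).obj H ⟶ C) (c : C ⟶ (Over.pullback j).obj G),
      s ∈ Set.range j ∧ FQ d.left ∧ IsClosedImmersion c.left ∧ d ≫ c = (Over.pullback j).map f) :
    ∃ (K : Over S) (_ : GrpObj K) (i : K ⟶ G) (_ : IsMonHom i) (g : H ⟶ K) (_ : IsMonHom g),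
      IsClosedImmersion i.left ∧ FQ g.left ∧ g ≫ i = f ∧
      ∀ (U : Scheme.{u}) (j : U ⟶ S) [Flat j] (C : Over U) (d : (Over.pullback j).obj H ⟶ C)
        (c : C ⟶ (Over.pullback j).obj G), FQ d.left → IsClosedImmersion c.left →
        d ≫ c = (Over.pullback j).map f →
        ∃ e : C ≅ (Over.pullback j).obj K, e.hom ≫ (Over.pullback j).map i = c := by
  let K : Over S := Over.mk (f.left.imageι ≫ G.hom)
  let i : K ⟶ G := Over.homMk f.left.imageι rfl
  let g : H ⟶ K := Over.homMk f.left.toImage (by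
    show f.left.toImage ≫ f.left.imageι ≫ G.hom = H.hom
    rw [Scheme.Hom.toImage_imageι_assoc, Over.w])
  have hgi : g ≫ i = f := Over.OverMorphism.ext f.left.toImage_imageι
  haveI : IsClosedImmersion i.left := inferInstanceAs (IsClosedImmersion f.left.imageι)
  haveI : IsSchemeTheoreticallyDominant g.left :=
    Groth.Flatmor4.isSchemeTheoreticallyDominant_toImage f.left
  haveI : QuasiCompact g.left := inferInstanceAs (QuasiCompact f.left.toImage)
  have hsq : ∀ {X Y : Over S} (w : X ⟶ Y) {U : Scheme.{u}} (j : U ⟶ S),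
      IsPullback (pullback.fst X.hom j) ((Over.pullback j).map w).left w.left (pullback.fst Y.hom j) := by
    intro X Y w U j
    refine IsPullback.of_bot ?_ (pullback.lift_fst _ _ _).symm (IsPullback.of_hasPullback Y.hom j)
    rw [Over.w w, show ((Over.pullback j).map w).left ≫ pullback.snd Y.hom j = pullback.snd X.hom j from
      Over.w ((Over.pullback j).map w)]
    exact IsPullback.of_hasPullback X.hom j
  have key : ∀ (U : Scheme.{u}) (j : U ⟶ S) [Flat j] (C : Over U) (d : (Over.pullback j).obj H ⟶ C)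
      (c : C ⟶ (Over.pullback j).obj G), FQ d.left → IsClosedImmersion c.left → d ≫ c = (Over.pullback j).map f →
      (∃ e : C ≅ (Over.pullback j).obj K, e.hom ≫ (Over.pullback j).map i = c) ∧
        FQ ((Over.pullback j).map g).left := by
    intro U j _ C d c hd hc hdc
    obtain ⟨_, _, _⟩ := hd
    haveI : IsSchemeTheoreticallyDominant d.left := dominant_of_flat_surjective d.left
    haveI : IsClosedImmersion ((Over.pullback j).map i).left :=
      MorphismProperty.of_isPullback (hsq i j) inferInstance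
    haveI : Flat (pullback.fst K.hom j) := MorphismProperty.pullback_fst _ _ ‹Flat j›
    haveI : IsSchemeTheoreticallyDominant ((Over.pullback j).map g).left :=
      IsSchemeTheoreticallyDominant.of_isPullback (hsq g j)
    obtain ⟨e, hec, hde⟩ := exists_iso_of_factor d.left c.left ((Over.pullback j).map g).left
      ((Over.pullback j).map i).left (by rw [← Over.comp_left, ← Over.comp_left, ← Functor.map_comp, hgi, hdc])
    refine ⟨⟨Over.isoMk e ?_, Over.OverMorphism.ext hec⟩, ?_⟩
    · rw [← Over.w ((Over.pullback j).map i), ← Category.assoc, hec, Over.w c]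
    · rw [← hde]
      exact ⟨inferInstance, inferInstance, inferInstance⟩
  choose U j hj C d c hs hd hc hdc using h
  have hg : FQ g.left := by
    have hFQ := fun s => (key (U s) (j s) (C s) (d s) (c s) (hd s) (hc s) (hdc s)).2
    refine ⟨flat_of_jointly g.left fun x => ?_, ⟨fun y => ?_⟩, inferInstance⟩
    · let s := H.hom.base x
      haveI := hj s
      haveI : Flat (pullback.fst H.hom (j s)) := MorphismProperty.pullback_fst _ _ (hj s)
      haveI : Flat (pullback.fst K.hom (j s)) := MorphismProperty.pullback_fst _ _ (hj s)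
      haveI := (hFQ s).1
      obtain ⟨u₀, hu₀⟩ := hs s
      obtain ⟨z, hz, -⟩ := Scheme.Pullback.exists_preimage_pullback (f := H.hom) (g := j s) x u₀ hu₀.symm
      refine ⟨_, pullback.fst H.hom (j s), inferInstance, ⟨z, hz⟩, ?_⟩
      rw [(hsq g (j s)).w]
      infer_instance
    · let s := K.hom.base y
      obtain ⟨u₀, hu₀⟩ := hs s
      obtain ⟨z, hz, -⟩ := Scheme.Pullback.exists_preimage_pullback (f := K.hom) (g := j s) y u₀ hu₀.symm
      obtain ⟨z', hz'⟩ := (hFQ s).2.1.surj z
      refine ⟨pullback.fst H.hom (j s) z', ?_⟩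
      rw [← hz, ← hz', ← Scheme.Hom.comp_apply, (hsq g (j s)).w]
      rfl
  obtain ⟨inst, hi, hgm⟩ := exists_grpObj f i g hgi hg
  exact ⟨K, inst, i, hi, g, hgm, inferInstance, hg, hgi, fun U j _ C d c hd hc hdc =>
    (key U j C d c hd hc hdc).1⟩

end Groth.Cochar.Img
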