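import Groth.Agent.Hopf.Cochar.MaxRank
import Groth.Agent.Hopf.Cochar.ImageGrp
import Groth.Agent.DescentBase.Descends
import Groth.Agent.Reductive.BaseChangeMT
import Groth.Agent.Abvar.BaseChange

/-!
Images of homomorphisms from diagonalisable groups to groups of multiplicative type, locally on the base.
-/

set_option autoImplicit false
universe u

open CategoryTheory CategoryTheory.Limits MonoidalCategory CartesianMonoidalCategory MonObj GrpObj AlgebraicGeometry
open Groth.Reductive Groth.Reductive.FreeDiag Groth.Cochar.Img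

noncomputable section

namespace Groth.Cochar

variable {S : Scheme.{u}}

/-- Near `s`, the morphism is faithfully flat onto a closed diagonalisable subgroup. -/
def ImgAt {H G : Over S} [GrpObj G] (f : H ⟶ G) (s : S) (N' : Type) [AddCommGroup N'] : Prop :=
  ∃ (U : Scheme.{u}) (j : U ⟶ S) (_ : IsOpenImmersion j) (d : (Over.pullback j).obj H ⟶ Red.DS U N')
    (c : Red.DS U N' ⟶ Red.bc j G) (_ : IsMonHom c),
    s ∈ Set.range j ∧ FQ d.left ∧ IsClosedImmersion c.left ∧ d ≫ c = (Over.pullback j).map f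

theorem FQ.of_iso {X Y : Scheme.{u}} (e : X ⟶ Y) [IsIso e] : FQ e :=
  ⟨inferInstance, inferInstance, inferInstance⟩

theorem ImgAt.precomp {H H' G : Over S} [GrpObj G] (e : H' ≅ H) (f : H ⟶ G) (s : S) {N' : Type}
    [AddCommGroup N'] (h : ImgAt (e.hom ≫ f) s N') : ImgAt f s N' := by
  obtain ⟨U, j, hj, d, c, hc, hs, hd, hcl, he⟩ := h
  refine ⟨U, j, hj, (Over.pullback j).map e.inv ≫ d, c, hc, hs, ?_, hcl, ?_⟩
  · rw [Over.comp_left]
    haveI : IsIso ((Over.pullback j).map e.inv).left :=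
      inferInstanceAs (IsIso ((Over.forget _).map ((Over.pullback j).map e.inv)))
    exact (FQ.of_iso _).comp hd
  · rw [Category.assoc, he, ← Functor.map_comp, Iso.inv_hom_id_assoc]

theorem ImgAt.of_restrict {T : Scheme.{u}} (g : T ⟶ S) [IsOpenImmersion g] {H G : Over S} [GrpObj G] (f : H ⟶ G)
    (t : T) {N' : Type} [AddCommGroup N'] (h : ImgAt (G := Red.bc g G) ((Over.pullback g).map f) t N') :
    ImgAt f (g t) N' := by
  obtain ⟨U, j, hj, d, c, hc, ⟨x, hx⟩, hd, hcl, he⟩ := h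
  let α := Over.pullbackComp j g
  haveI := hc
  haveI h1 : IsMonHom (M := Red.bc j (Red.bc g G)) (N := Red.bc (j ≫ g) G) (α.inv.app G) :=
    (Groth.Abvar.isMonHom_pullbackComp j g G).1
  haveI : IsIso (α.inv.app G).left := inferInstanceAs (IsIso ((Over.forget _).map (α.inv.app G)))
  haveI : IsIso (α.hom.app H).left := inferInstanceAs (IsIso ((Over.forget _).map (α.hom.app H)))
  refine ⟨U, j ≫ g, inferInstance, α.hom.app H ≫ d, c ≫ α.inv.app G, Groth.Abvar.isMonHom_comp hc h1,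
    ⟨x, by rw [Scheme.Hom.comp_apply, hx]⟩, ?_, ?_, ?_⟩
  · rw [Over.comp_left]
    exact (FQ.of_iso _).comp hd
  · rw [Over.comp_left]
    exact MorphismProperty.comp_mem _ _ _ hcl inferInstance
  · rw [Category.assoc, reassoc_of% he]
    exact (α.hom.naturality_assoc f _).symm.trans (by rw [← NatTrans.comp_app, α.hom_inv_id]; simp)

variable {G : Over S} [GrpObj G] {N : Type} [AddCommGroup N]

theorem bcPointEquiv_bcDS_map {T : Scheme.{u}} (j : T ⟶ S) (φ : Red.DS S N ⟶ G) {Z : Over T}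
    (x : Z ⟶ Red.DS T N) :
    bcPointEquiv j G Z (x ≫ (bcDS j N).hom ≫ (Over.pullback j).map φ) = dsPtEquiv j N Z x ≫ φ := by
  rw [← Category.assoc, comp_bcDS]
  refine ((Over.mapPullbackAdj j).homEquiv_naturality_right_symm _ _).trans ?_
  exact congrArg (· ≫ φ) (MulEquiv.apply_symm_apply (bcPointEquiv j (Red.DS S N) Z) _)

/-- Triviality over the point is read off from the restriction. -/
theorem Pt.trivOn_iff (P : Pt G) (ψ : Red.DS S N ⟶ G) : TrivOn ψ (Over.mk P.p) ↔ P.res ψ = 1 := by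
  refine ⟨fun h => ?_, fun h W w x => ?_⟩
  · rw [Pt.res, h _ (Over.homMk (Red.DS (Spec (CommRingCat.of P.L)) N).hom rfl) _, map_one]
    exact MonObj.one_comp _
  · let Z : Over (Spec (CommRingCat.of P.L)) := Over.mk w.left
    let c : (Over.map P.p).obj Z ≅ W := Over.isoMk (Iso.refl _) (by
      show 𝟙 _ ≫ W.hom = w.left ≫ P.p
      rw [Category.id_comp]; exact (Over.w w).symm)
    have h1 := congrArg ((dsPtEquiv P.p N Z).symm (c.hom ≫ x) ≫ ·) h
    simp only [P.comp_res, MulEquiv.apply_symm_apply, MonObj.comp_one, Category.assoc] at h1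
    have h2 : (bcPointEquiv P.p G Z).symm (c.hom ≫ x ≫ ψ) = 1 := by
      rw [← cancel_mono P.i.inv, h1]
      exact (MonObj.one_comp _).symm
    rw [← cancel_epi c.hom, MonObj.comp_one, ← (bcPointEquiv P.p G Z).symm.injective.eq_iff, h2, map_one]

theorem Pt.range_le_iff (P : Pt G) (φ : Red.DS S N ⟶ G) [IsMonHom φ] (Λ : AddSubgroup N) :
    (P.char φ).range ≤ Λ ↔ TrivOn (dsHom (QuotientAddGroup.mk' Λ) ≫ φ) (Over.mk P.p) := by
  rw [P.trivOn_iff, P.res_eq, P.char_dsHom, ← dsHom_zero]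
  refine ⟨fun h => congrArg _ (AddMonoidHom.ext fun m => ?_), fun h => ?_⟩
  · exact (QuotientAddGroup.eq_zero_iff _).mpr (h ⟨m, rfl⟩)
  · rintro _ ⟨m, rfl⟩
    exact (QuotientAddGroup.eq_zero_iff _).mp (DFunLike.congr_fun (dsHom_injective h) m)

/-- A point killed by the restriction to a subgroup comes from the quotient. -/
theorem exists_lift_quot {T : Scheme.{u}} (Λ : AddSubgroup N) {Z : Over T} (q : Z ⟶ Red.DS T N)
    (h : q ≫ dsHom Λ.subtype = 1) : ∃ q', q' ≫ dsHom (QuotientAddGroup.mk' Λ) = q := by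
  let v : N →+ Additive Γ(Z.left, ⊤)ˣ :=
    MonoidHom.toAdditiveRight (dsValHom q : Multiplicative N →* Γ(Z.left, ⊤)).toHomUnits
  have hv : ∀ n ∈ Λ, v n = 0 := fun n hn => by
    have e := congrArg (fun z => dsVal z (Multiplicative.ofAdd (⟨n, hn⟩ : Λ))) h
    simp only [dsVal_dsHom, dsVal_one] at e
    exact congrArg Additive.ofMul (Units.ext e)
  let ψ : Multiplicative (N ⧸ Λ) →* Γ(Z.left, ⊤) :=
    (Units.coeHom _).comp (AddMonoidHom.toMultiplicativeLeft (QuotientAddGroup.lift Λ v hv))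
  refine ⟨dsMk Z ψ, dsVal_ext fun m => ?_⟩
  rw [dsVal_dsHom, dsVal_dsMk]
  rfl

theorem isClosedImmersion_dsHom {T : Scheme.{u}} {M : Type} [AddCommGroup M] (a : M →+ N)
    (ha : Function.Surjective a) : IsClosedImmersion (dsHom (T := T) a).left := by
  rw [dsHom_eq_DSmap]
  let φ := (MonoidAlgebra.mapDomainAlgHom (ULift.{u} ℤ) (ULift.{u} ℤ)
    (AddMonoidHom.toMultiplicative a)).toRingHom
  have h : IsClosedImmersion (Red.diagMap (ULift.{u} ℤ) a).left := by
    show IsClosedImmersion (Spec.map (CommRingCat.ofHom φ))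
    exact IsClosedImmersion.spec_of_surjective _ fun y => by
      obtain ⟨x, hx⟩ := Finsupp.mapDomain_surjective (M := ULift.{u} ℤ)
        (f := AddMonoidHom.toMultiplicative a) ha y.coeff
      exact ⟨⟨x⟩, MonoidAlgebra.ext hx⟩
  exact MorphismProperty.of_isPullback (P := @IsClosedImmersion) (isPullback_map_left _ _) h

/-- Homomorphisms from diagonalisable groups have diagonalisable images locally on the base. -/
theorem exists_imgAt (hG : SGA3x.IsMultTypeFT G) (hN : AddGroup.FG N) (φ : Red.DS S N ⟶ G) [IsMonHom φ]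
    (s : S) : ∃ Λ : AddSubgroup N, ImgAt φ s Λ := by
  obtain ⟨_, _, _⟩ := props hG
  haveI : Module.Finite ℤ N := Module.Finite.iff_addGroup_fg.mpr hN
  obtain ⟨L, _, p, M, _, hM, hps, i, hi⟩ := exists_field_triv hG s
  let P : Pt G := { L := L, p := p, M := M, fg := hM, i := i }
  let Λ := (P.char φ).range
  have hΛfg : AddGroup.FG Λ :=
    Module.Finite.iff_addGroup_fg.mp (inferInstanceAs (Module.Finite ℤ Λ.toIntSubmodule))
  have hQfg : AddGroup.FG (N ⧸ Λ) := Module.Finite.iff_addGroup_fg.mp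
    (inferInstanceAs (Module.Finite ℤ (N ⧸ Λ.toIntSubmodule)))
  have htriv : TrivOn (dsHom (QuotientAddGroup.mk' Λ) ≫ φ) (Over.mk p) :=
    (P.range_le_iff φ Λ).mp le_rfl
  obtain ⟨V, -, hViff, hVt⟩ := exists_clopen_trivLocus' (dsHom (QuotientAddGroup.mk' Λ) ≫ φ)
    (isMultTypeFT_DS hQfg) (Or.inr inferInstance)
  have hsV : s ∈ V := by
    rw [hViff, pullback_map_eq_one_iff, ← hps]
    exact (trivOn_fieldPoint_iff (u := dsHom (QuotientAddGroup.mk' Λ) ≫ φ) L p).mp htriv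
  have hr : Set.range p ⊆ Set.range V.ι := by
    rw [Scheme.Opens.range_ι]
    rintro _ ⟨y, rfl⟩
    rw [Subsingleton.elim y (IsLocalRing.closedPoint L)]
    exact (hps.symm ▸ hsV :)
  obtain ⟨p₁, hp⟩ : ∃ p₁ : Spec (CommRingCat.of L) ⟶ V, p₁ ≫ V.ι = p :=
    ⟨IsOpenImmersion.lift V.ι p hr, IsOpenImmersion.lift_fac _ _ _⟩
  let φ₁ : Red.DS (V : Scheme.{u}) N ⟶ Red.bc V.ι G := (bcDS V.ι N).hom ≫ (Over.pullback V.ι).map φ
  have hkill : ∀ (Z : Over (V : Scheme.{u})) (q : Z ⟶ Red.DS (V : Scheme.{u}) N),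
      q ≫ dsHom Λ.subtype = 1 → q ≫ φ₁ = 1 := by
    intro Z q hq
    obtain ⟨q', rfl⟩ := exists_lift_quot Λ q hq
    apply (bcPointEquiv V.ι G Z).injective
    rw [map_one, bcPointEquiv_bcDS_map, ← dsPtEquiv_dsHom, Category.assoc]
    exact hVt ((Over.map V.ι).obj Z) (Over.homMk Z.hom rfl) _
  haveI : IsMonHom φ₁ := Groth.Abvar.isMonHom_comp inferInstance (Groth.Abvar.isMonHom_map φ)
  let q₀ : Red.DS (V : Scheme.{u}) N ⟶ Red.DS (V : Scheme.{u}) Λ := dsHom Λ.subtype
  haveI : IsAffineHom (Red.DS (V : Scheme.{u}) N).hom := (props (isMultTypeFT_DS hN)).1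
  haveI : IsAffineHom (Red.DS (V : Scheme.{u}) Λ).hom := (props (isMultTypeFT_DS hΛfg)).1
  obtain ⟨hqf, hqs⟩ := flat_surjective_dsHom (T := (V : Scheme.{u})) Λ.subtype Λ.subtype_injective
  have hcov : Groth.AlgGrp1.IsCover q₀ := by
    refine ⟨hqf, hqs, ?_⟩
    have hN' := (Groth.Reductive.ds_flat_lfp (V : Scheme.{u}) N hN).2
    have hΛ' := (Groth.Reductive.ds_flat_lfp (V : Scheme.{u}) Λ hΛfg).2
    have : LocallyOfFinitePresentation (q₀.left ≫ (Red.DS (V : Scheme.{u}) Λ).hom) := by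
      rw [Over.w]; exact hN'
    exact Groth.SpectralTopology.lfp_of_comp q₀.left (Red.DS (V : Scheme.{u}) Λ).hom
  obtain ⟨c₁, hc₁⟩ := hcov.exists_desc φ₁ fun Z q q' hqq => by
    have h1 : (q * q'⁻¹) ≫ q₀ = 1 := by
      let F : (Z ⟶ Red.DS (V : Scheme.{u}) N) →* (Z ⟶ Red.DS (V : Scheme.{u}) Λ) :=
        MonoidHom.mk' (fun x => x ≫ q₀) (fun x y => mul_comp_dsHom _ x y)
      show F (q * q'⁻¹) = 1
      rw [map_mul, map_inv]
      exact mul_inv_eq_one.mpr hqq
    have h2 := hkill Z _ h1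
    rw [MonObj.mul_comp, GrpObj.inv_comp] at h2
    exact mul_inv_eq_one.mp h2
  haveI : IsMonHom c₁ := Groth.AlgGrp1.isMonHom_of_points _ fun Z z z' => by
    obtain ⟨Z', c, x, x', hc, hx, hx'⟩ := hcov.exists_lift₂ z z'
    apply hc.cancel
    rw [← Category.assoc, MonObj.comp_mul c z z', MonObj.comp_mul, ← hx, ← hx', ← Category.assoc c z,
      ← hx, ← Category.assoc c z', ← hx', ← mul_comp_dsHom Λ.subtype x x', Category.assoc, Category.assoc,
      Category.assoc, hc₁, MonObj.mul_comp]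
  -- the chart over `V`
  subst hp
  let α₁ : Red.bc (p₁ ≫ V.ι) G ≅ Red.bc p₁ (Red.bc V.ι G) := (Over.pullbackComp p₁ V.ι).app G
  haveI hα₁ : IsMonHom α₁.hom := (Groth.Abvar.isMonHom_pullbackComp p₁ V.ι G).2
  let i₁ : Red.DS (Spec (CommRingCat.of L)) M ≅ Red.bc p₁ (Red.bc V.ι G) := i ≪≫ α₁
  haveI : IsMonHom i₁.hom := Groth.Abvar.isMonHom_comp hi hα₁
  let P₁ : Pt (Red.bc V.ι G) := { L := L, p := p₁, M := M, fg := hM, i := i₁ }
  have hle : Λ ≤ (P₁.char φ₁).range := by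
    refine (P.range_le_iff φ _).mpr fun W w x => ?_
    let wl : W.left ⟶ Spec (CommRingCat.of L) := w.left
    let Z : Over (V : Scheme.{u}) := Over.mk (wl ≫ p₁)
    let cι : (Over.map V.ι).obj Z ≅ W := Over.isoMk (Iso.refl _) (by
      show 𝟙 _ ≫ W.hom = (wl ≫ p₁) ≫ V.ι
      rw [Category.id_comp, Category.assoc]; exact (Over.w w).symm)
    obtain ⟨x₁, hx₁⟩ := (dsPtEquiv V.ι (N ⧸ (P₁.char φ₁).range) Z).surjective (cι.hom ≫ x)
    have h1 := congrArg (bcPointEquiv V.ι G Z)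
      ((P₁.range_le_iff φ₁ _).mp le_rfl Z (Over.homMk wl rfl) x₁)
    rw [map_one, ← Category.assoc, bcPointEquiv_bcDS_map, ← dsPtEquiv_dsHom, hx₁] at h1
    rw [← cancel_epi cι.hom, MonObj.comp_one, ← h1]
    simp only [Category.assoc]
  have hchar : P₁.char φ₁ = Λ.subtype.comp (P₁.char c₁) := by
    rw [← P₁.char_dsHom]
    congr 1
    exact hc₁.symm
  have hsurj : Function.Surjective (P₁.char c₁) := fun l => by
    obtain ⟨m, hm⟩ := hle l.2
    rw [hchar] at hm
    exact ⟨m, Subtype.ext hm⟩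
  have hG₁ := isMultTypeFT_bc hG V.ι
  obtain ⟨U, -, hUiff, hUc⟩ := exists_clopen_prop @IsClosedImmersion
    (fun f ↦ Function.Surjective f) (fun f hf ↦ isClosedImmersion_dsHom f hf)
    (fun {K} _ {M N} _ _ f hf ↦ by
      haveI : IsClosedImmersion (dsHom (T := Spec (CommRingCat.of K)) f).left := hf
      exact surjective_of_mono_dsHom (K := K) f)
    (isMultTypeFT_DS hΛfg) hG₁ c₁
  have hcl : IsClosedImmersion ((Over.pullback p₁).map c₁).left := by
    have e : (bcDS p₁ Λ).hom ≫ (Over.pullback p₁).map c₁ =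
        (P₁.res c₁ : Red.DS (Spec (CommRingCat.of L)) Λ ⟶ Red.DS (Spec (CommRingCat.of L)) M) ≫ i₁.hom := by
      apply (bcPointEquiv p₁ (Red.bc V.ι G) _).injective
      rw [← Category.id_comp ((bcDS p₁ Λ).hom ≫ _), bcPointEquiv_bcDS_map, Pt.res, Category.assoc,
        Iso.inv_hom_id, Category.comp_id]
      exact ((bcPointEquiv p₁ (Red.bc V.ι G) _).apply_symm_apply _).symm
    have e' : (Over.pullback p₁).map c₁ = (bcDS p₁ Λ).inv ≫ dsHom (P₁.char c₁ : M →+ Λ) ≫ i₁.hom := by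
      rw [← P₁.res_eq, ← e, Iso.inv_hom_id_assoc]
    rw [e', Over.comp_left, Over.comp_left]
    haveI := isClosedImmersion_dsHom (T := Spec (CommRingCat.of L)) _ hsurj
    haveI : IsIso (bcDS p₁ Λ).inv.left := inferInstanceAs (IsIso ((Over.forget _).map (bcDS p₁ Λ).inv))
    haveI : IsIso i₁.hom.left := inferInstanceAs (IsIso ((Over.forget _).map i₁.hom))
    infer_instance
  have hxU : p₁.base (IsLocalRing.closedPoint L) ∈ U :=
    (hUiff _).mpr ((prop_map_fieldPoint_iff c₁ @IsClosedImmersion L p₁).mp hcl)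
  refine ⟨Λ, ?_⟩
  have hsv : V.ι (p₁.base (IsLocalRing.closedPoint L)) = s := by rw [← hps]; rfl
  rw [← hsv]
  refine ImgAt.of_restrict V.ι φ _ (ImgAt.precomp (bcDS V.ι N) _ _ ?_)
  refine ⟨U, U.ι, inferInstance, (Over.pullback U.ι).map q₀ ≫ (bcDS U.ι Λ).inv,
    (bcDS U.ι Λ).hom ≫ (Over.pullback U.ι).map c₁,
    Groth.Abvar.isMonHom_comp inferInstance (Groth.Abvar.isMonHom_map c₁), ?_, ?_, ?_, ?_⟩
  · rw [Scheme.Opens.range_ι]; exact hxU
  · rw [Over.comp_left]
    haveI : IsIso (bcDS U.ι Λ).inv.left := inferInstanceAs (IsIso ((Over.forget _).map (bcDS U.ι Λ).inv))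
    have hq : FQ q₀.left := by
      haveI : QuasiCompact (q₀.left ≫ (Red.DS (V : Scheme.{u}) Λ).hom) := by rw [Over.w]; infer_instance
      exact ⟨hqf, hqs, QuasiCompact.of_comp q₀.left (Red.DS (V : Scheme.{u}) Λ).hom⟩
    exact (hq.pullback (isPullback_map_left q₀ U.ι)).comp (FQ.of_iso _)
  · rw [Over.comp_left]
    haveI : IsIso (bcDS U.ι Λ).hom.left := inferInstanceAs (IsIso ((Over.forget _).map (bcDS U.ι Λ).hom))
    haveI : IsClosedImmersion ((Over.pullback U.ι).map c₁).left := hUc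
    infer_instance
  · rw [Category.assoc, Iso.inv_hom_id_assoc, ← Functor.map_comp]
    exact congrArg _ hc₁

end Groth.Cochar
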