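import Groth.Agent.Reductive.TorusMT
import Groth.Agent.Reductive.MultTypeComm
import Groth.Agent.Reductive2.HomDual
import Groth.Agent.AlgGrp1.Basic
import Groth.Agent.SpectralTopology.FpCancel
import Groth.Agent.Reductive.MTLocTriv

/-!
Homomorphisms from diagonalisable groups to a group of multiplicative type: character map at a field
valued point, injectivity over a connected base, division.
-/

set_option autoImplicit false
universe u

open CategoryTheory CategoryTheory.Limits MonoidalCategory CartesianMonoidalCategory MonObj GrpObj AlgebraicGeometry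
open Groth.Reductive Groth.Reductive.FreeDiag

noncomputable section

namespace Groth.Cochar

variable {S : Scheme.{u}} {G : Over S} [GrpObj G]

theorem props (hG : SGA3x.IsMultTypeFT G) : IsAffineHom G.hom ∧ Flat G.hom ∧ LocallyOfFinitePresentation G.hom :=
  ⟨(MTInt.locTriv_of_multTypeFT hG).1,
    Groth.Reductive.flat_lfp_of_multTypeFT G hG Groth.AlgSp2.flat_descendsAlong inferInstance⟩

/-- Homomorphisms agree if they agree at one field valued point. -/
theorem eq_of_point [PreconnectedSpace S] (hG : SGA3x.IsMultTypeFT G) {H : Over S} [GrpObj H]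
    (hH : SGA3x.IsMultTypeFT H) (a b : H ⟶ G) [IsMonHom a] [IsMonHom b] {K : Type u} [Field K]
    (p : Spec (CommRingCat.of K) ⟶ S)
    (h : ∀ (W : Over S), (W ⟶ Over.mk p) → ∀ x : W ⟶ H, x ≫ a = x ≫ b) : a = b := by
  have hc := comm_of_multTypeFT hG
  obtain ⟨_, _, _⟩ := props hG
  let d : H ⟶ G := a * b⁻¹
  have : IsMonHom d := Groth.AlgGrp1.isMonHom_of_points _ fun Z z z' => by
    simp only [d, MonObj.comp_mul, GrpObj.comp_inv, MonObj.mul_comp, _root_.mul_inv_rev]
    rw [hc Z (z' ≫ b)⁻¹ (z ≫ b)⁻¹, ← _root_.mul_assoc, ← _root_.mul_assoc,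
      _root_.mul_assoc _ (z' ≫ a) (z ≫ b)⁻¹, hc Z (z' ≫ a) (z ≫ b)⁻¹, ← _root_.mul_assoc]
  obtain ⟨V, hVc, hViff, hVt⟩ := exists_clopen_trivLocus' d hH (Or.inr inferInstance)
  let s := p.base (IsLocalRing.closedPoint K)
  have hs : s ∈ V := by
    rw [hViff, pullback_map_eq_one_iff]
    refine (trivOn_fieldPoint_iff (u := d) K p).mp fun W w x => ?_
    simp only [d, MonObj.comp_mul, GrpObj.comp_inv, h W w x, mul_inv_cancel]
  have hVu : (V : Set S) = Set.univ := IsClopen.eq_univ ⟨hVc, V.2⟩ ⟨s, hs⟩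
  have : IsIso V.ι := by
    have : V = ⊤ := TopologicalSpace.Opens.ext hVu
    subst this
    rw [← Scheme.topIso_hom]; infer_instance
  have h1 := hVt H (Over.homMk (H.hom ≫ inv V.ι) (by simp)) (𝟙 H)
  rw [Category.id_comp] at h1
  exact mul_inv_eq_one.mp h1

/-- Every point is below a field valued point over which the group is diagonalisable. -/
theorem exists_field_triv (hG : SGA3x.IsMultTypeFT G) (s : S) :
    ∃ (L : Type u) (_ : Field L) (p : Spec (CommRingCat.of L) ⟶ S) (M : Type) (_ : AddCommGroup M),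
      AddGroup.FG M ∧ p.base (IsLocalRing.closedPoint L) = s ∧
        ∃ i : Red.DS (Spec (CommRingCat.of L)) M ≅ Red.bc p G, IsMonHom i.hom := by
  obtain ⟨S', f, -, hsurj, -, hloc⟩ := hG
  obtain ⟨t', rfl⟩ := hsurj.surj s
  obtain ⟨U, hU, M, hMg, hMfg, ⟨e⟩⟩ := hloc t'
  let t : (U : Scheme.{u}) := ⟨t', hU⟩
  let q := (U : Scheme.{u}).fromSpecResidueField t
  let i₁ : Red.DS (U : Scheme.{u}) M ≅ Red.bc (U.ι ≫ f) G := ((Grp.forget _).mapIso e).symm
  have : IsMonHom i₁.hom := inferInstanceAs (IsMonHom e.inv.hom.hom)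
  obtain ⟨i, hi⟩ := exists_trivialisation_comp G q (U.ι ≫ f) i₁
  refine ⟨(U : Scheme.{u}).residueField t, inferInstance, q ≫ U.ι ≫ f, M, hMg, hMfg, ?_, i, hi⟩
  rw [Scheme.Hom.comp_apply, Scheme.fromSpecResidueField_apply]
  rfl

theorem dsPtEquiv_dsHom {T U : Scheme.{u}} (j : T ⟶ U) {M N : Type} [AddCommGroup M] [AddCommGroup N]
    (b : M →+ N) {Z : Over T} (x : Z ⟶ Red.DS T N) :
    dsPtEquiv j N Z x ≫ dsHom b = dsPtEquiv j M Z (x ≫ dsHom b) := dsVal_ext fun m => by
  rw [dsVal_dsHom]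
  refine (dsVal_dsMk (S := U) ((Over.map j).obj Z) _ _).trans (Eq.symm ?_)
  exact (dsVal_dsMk (S := U) ((Over.map j).obj Z) _ _).trans (dsVal_dsHom b x m)

theorem dsHom_add {T : Scheme.{u}} {M N : Type} [AddCommGroup M] [AddCommGroup N] (a b : M →+ N) :
    dsHom (T := T) (a + b) = dsHom a * dsHom b := dsVal_ext fun m => by
  rw [← Category.id_comp (dsHom (a + b)), ← Category.id_comp (dsHom a * dsHom b), MonObj.comp_mul, dsVal_mul,
    dsVal_dsHom, dsVal_dsHom, dsVal_dsHom, ← dsValHom_apply, ← dsValHom_apply, ← dsValHom_apply, ← map_mul]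
  rfl

theorem dsHom_zero {T : Scheme.{u}} {M N : Type} [AddCommGroup M] [AddCommGroup N] :
    dsHom (T := T) (0 : M →+ N) = 1 := by
  refine dsVal_ext fun m => ?_
  rw [← Category.id_comp (dsHom (0 : M →+ N)), dsVal_dsHom, dsVal_one]
  rw [← dsValHom_apply]
  exact map_one _

/-- A chart at a field valued point. -/
structure Pt (G : Over S) [GrpObj G] where
  /-- field -/
  L : Type u
  [fld : Field L]
  /-- point -/
  p : Spec (CommRingCat.of L) ⟶ S
  /-- characters -/
  M : Type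
  [grp : AddCommGroup M]
  fg : AddGroup.FG M
  /-- trivialisation -/
  i : Red.DS (Spec (CommRingCat.of L)) M ≅ Red.bc p G
  [hom : IsMonHom i.hom]

attribute [instance] Pt.fld Pt.grp Pt.hom

instance Pt.isMonHom_i_inv (P : Pt G) : IsMonHom P.i.inv :=
  Groth.AlgGrp1.isMonHom_of_points _ fun Z a b => by
    rw [← cancel_mono P.i.hom, Category.assoc, P.i.inv_hom_id, Category.comp_id, MonObj.mul_comp,
      Category.assoc, Category.assoc, P.i.inv_hom_id, Category.comp_id, Category.comp_id]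

theorem nonempty_pt [Nonempty S] (hG : SGA3x.IsMultTypeFT G) : Nonempty (Pt G) := by
  obtain ⟨L, _, p, M, _, hM, -, i, hi⟩ := exists_field_triv hG (Classical.arbitrary S)
  exact ⟨{ L := L, p := p, M := M, fg := hM, i := i }⟩

namespace Pt

variable (P : Pt G) {N N' : Type} [AddCommGroup N] [AddCommGroup N']

/-- The restriction of a morphism to the point. -/
def res (φ : Red.DS S N ⟶ G) : Red.DS (Spec (CommRingCat.of P.L)) N ⟶ Red.DS _ P.M :=
  (bcPointEquiv P.p G _).symm (dsPtEquiv P.p N _ (𝟙 _) ≫ φ) ≫ P.i.inv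

theorem comp_res (φ : Red.DS S N ⟶ G) {Z : Over (Spec (CommRingCat.of P.L))} (x : Z ⟶ Red.DS _ N) :
    x ≫ P.res φ = (bcPointEquiv P.p G Z).symm (dsPtEquiv P.p N Z x ≫ φ) ≫ P.i.inv := by
  rw [res, ← Category.assoc]
  congr 1
  apply (bcPointEquiv P.p G Z).injective
  rw [bcPointEquiv_comp, MulEquiv.apply_symm_apply, MulEquiv.apply_symm_apply, ← Category.assoc,
    ← dsPtEquiv_comp, Category.comp_id]

instance isMonHom_res (φ : Red.DS S N ⟶ G) [IsMonHom φ] : IsMonHom (P.res φ) :=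
  have := P.isMonHom_i_inv
  Groth.AlgGrp1.isMonHom_of_points _ fun Z a b => by
    rw [comp_res, comp_res, comp_res, map_mul, MonObj.mul_comp, map_mul]
    exact MonObj.mul_comp _ _ _

theorem res_mul (φ ψ : Red.DS S N ⟶ G) : P.res (φ * ψ) = P.res φ * P.res ψ := by
  have := P.isMonHom_i_inv
  rw [res, res, res, MonObj.comp_mul, map_mul]
  exact MonObj.mul_comp _ _ _

theorem res_one : P.res (1 : Red.DS S N ⟶ G) = 1 := by
  have := P.isMonHom_i_inv
  rw [res, MonObj.comp_one, map_one]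
  exact MonObj.one_comp _

theorem res_dsHom (b : N' →+ N) (φ : Red.DS S N' ⟶ G) :
    P.res (dsHom b ≫ φ) = dsHom b ≫ P.res φ := by
  rw [← Category.id_comp (P.res (dsHom b ≫ φ)), comp_res, comp_res, ← Category.assoc, dsPtEquiv_dsHom,
    Category.id_comp]

theorem res_injective [PreconnectedSpace S] (hG : SGA3x.IsMultTypeFT G) (hN : AddGroup.FG N)
    (φ ψ : Red.DS S N ⟶ G) [IsMonHom φ] [IsMonHom ψ] (h : P.res φ = P.res ψ) : φ = ψ := by
  refine eq_of_point hG (isMultTypeFT_DS hN) φ ψ P.p fun W w x => ?_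
  let Z : Over (Spec (CommRingCat.of P.L)) := Over.mk w.left
  let c : (Over.map P.p).obj Z ≅ W := Over.isoMk (Iso.refl _) (by
    show 𝟙 _ ≫ W.hom = w.left ≫ P.p
    rw [Category.id_comp]; exact (Over.w w).symm)
  have h1 := congrArg ((dsPtEquiv P.p N Z).symm (c.hom ≫ x) ≫ ·) h
  simp only [comp_res, MulEquiv.apply_symm_apply, cancel_mono, EmbeddingLike.apply_eq_iff_eq,
    Category.assoc] at h1
  exact (cancel_epi c.hom).mp h1

/-- The map of character groups at the point. -/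
def char (φ : Red.DS S N ⟶ G) [IsMonHom φ] : P.M →+ N := (exists_dsHom_eq (P.res φ)).choose

theorem res_eq (φ : Red.DS S N ⟶ G) [IsMonHom φ] : P.res φ = dsHom (P.char φ) :=
  (exists_dsHom_eq (P.res φ)).choose_spec

theorem char_eq {φ : Red.DS S N ⟶ G} [IsMonHom φ] {a : P.M →+ N} (h : P.res φ = dsHom a) : P.char φ = a :=
  dsHom_injective ((P.res_eq φ).symm.trans h)

theorem char_dsHom (b : N' →+ N) (φ : Red.DS S N' ⟶ G) [IsMonHom φ] :
    P.char (dsHom b ≫ φ) = b.comp (P.char φ) :=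
  P.char_eq (by rw [res_dsHom, res_eq, dsHom_comp])

theorem char_one [IsMonHom (1 : Red.DS S N ⟶ G)] : P.char (1 : Red.DS S N ⟶ G) = 0 :=
  P.char_eq (by rw [res_one, dsHom_zero])

theorem char_mul (φ ψ : Red.DS S N ⟶ G) [IsMonHom φ] [IsMonHom ψ] [IsMonHom (φ * ψ)] :
    P.char (φ * ψ) = P.char φ + P.char ψ :=
  P.char_eq (by rw [res_mul, res_eq, res_eq, dsHom_add])

theorem char_injective [PreconnectedSpace S] (hG : SGA3x.IsMultTypeFT G) (hN : AddGroup.FG N)
    (φ ψ : Red.DS S N ⟶ G) [IsMonHom φ] [IsMonHom ψ] (h : P.char φ = P.char ψ) : φ = ψ :=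
  P.res_injective hG hN φ ψ (by rw [res_eq, res_eq, h])

end Pt

theorem isMonHom_mul (hG : SGA3x.IsMultTypeFT G) {H : Over S} [GrpObj H] (φ ψ : H ⟶ G) [IsMonHom φ]
    [IsMonHom ψ] : IsMonHom (φ * ψ) :=
  have hc := comm_of_multTypeFT hG
  Groth.AlgGrp1.isMonHom_of_points _ fun Z z z' => by
    simp only [MonObj.comp_mul, MonObj.mul_comp]
    rw [← _root_.mul_assoc, ← _root_.mul_assoc, _root_.mul_assoc _ (z' ≫ φ) (z ≫ ψ), hc Z (z' ≫ φ) (z ≫ ψ),
      ← _root_.mul_assoc]

theorem isMonHom_one {H : Over S} [GrpObj H] : IsMonHom (1 : H ⟶ G) :=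
  Groth.AlgGrp1.isMonHom_of_points _ fun Z z z' => by simp only [MonObj.comp_one, _root_.one_mul]

theorem isMonHom_inv (hG : SGA3x.IsMultTypeFT G) {H : Over S} [GrpObj H] (φ : H ⟶ G) [IsMonHom φ] :
    IsMonHom φ⁻¹ :=
  have hc := comm_of_multTypeFT hG
  Groth.AlgGrp1.isMonHom_of_points _ fun Z z z' => by
    simp only [GrpObj.comp_inv, MonObj.mul_comp, _root_.mul_inv_rev]
    exact hc _ _ _

/-- A cocharacter killing the `n`-torsion at a point is an `n`-th power. -/
theorem exists_div [PreconnectedSpace S] (hG : SGA3x.IsMultTypeFT G) (P : Pt G) (n : ℕ) (hn : n ≠ 0)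
    (φ : Red.DS S ℤ ⟶ G) [IsMonHom φ] (a : P.M →+ ℤ) (h : P.char φ = n • a) :
    ∃ (μ' : Red.DS S ℤ ⟶ G) (_ : IsMonHom μ'), P.char μ' = a := by
  have : NeZero n := ⟨hn⟩
  have hZfg : AddGroup.FG ℤ := Module.Finite.iff_addGroup_fg.mp inferInstance
  let pow : Red.DS S ℤ ⟶ Red.DS S ℤ := dsHom (n • AddMonoidHom.id ℤ)
  haveI : IsMonHom (dsHom (T := S) (n • AddMonoidHom.id ℤ)) := isMonHom_dsHom _
  haveI : IsMonHom pow := this
  let κ : Red.DS S (ZMod n) ⟶ Red.DS S ℤ := dsHom (Int.castAddHom (ZMod n))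
  have hκ : κ ≫ φ = 1 := by
    have := isMonHom_one (G := G) (H := Red.DS S (ZMod n))
    refine P.char_injective hG ?_ _ _ ?_
    · exact AddGroup.fg_iff_addMonoid_fg.mpr inferInstance
    rw [P.char_dsHom, P.char_one, h]
    ext m
    simp
  have hv : ∀ (Z : Over S) (q : Z ⟶ Red.DS S ℤ), q ≫ pow = 1 → q ≫ φ = 1 := by
    intro Z q hq
    let v := dsVal q (Multiplicative.ofAdd 1)
    have hvn : v ^ n = 1 := by
      have e := congrArg (fun z => dsVal z (Multiplicative.ofAdd 1)) hq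
      simp only [pow, dsVal_dsHom, dsVal_one] at e
      rw [← dsValHom_apply] at e
      rw [show AddMonoidHom.toMultiplicative (n • AddMonoidHom.id ℤ) (Multiplicative.ofAdd 1) =
        Multiplicative.ofAdd (1 : ℤ) ^ n from rfl, map_pow] at e
      exact e
    let ψ : Multiplicative (ZMod n) →* Γ(Z.left, ⊤) :=
      { toFun := fun k => v ^ (Multiplicative.toAdd k).val
        map_one' := by simp
        map_mul' := fun k k' => by
          rw [← pow_add]
          show v ^ (Multiplicative.toAdd k + Multiplicative.toAdd k').val = _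
          rw [ZMod.val_add, ← pow_eq_pow_mod _ hvn] }
    have hqy : q = dsMk Z ψ ≫ κ := dsVal_ext fun m => by
      rw [dsVal_dsHom, dsVal_dsMk, ← dsValHom_apply]
      refine DFunLike.congr_fun (f := dsValHom q) (g := ψ.comp (AddMonoidHom.toMultiplicative (Int.castAddHom (ZMod n)))) ?_ m
      refine MonoidHom.ext_mint ?_
      show dsVal q _ = v ^ ((1 : ℤ) : ZMod n).val
      rw [Int.cast_one, ZMod.val_one_eq_one_mod, ← pow_eq_pow_mod _ hvn, pow_one]
    rw [hqy, Category.assoc, hκ, MonObj.comp_one]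
  have hfgi : LocallyOfFinitePresentation (Red.DS S ℤ).hom :=
    (Groth.Reductive.ds_flat_lfp S ℤ hZfg).2
  obtain ⟨hpf, hps⟩ := flat_surjective_dsHom (T := S) (n • AddMonoidHom.id ℤ)
    (fun x y hxy => by
      simpa [hn] using hxy)
  have hcov : Groth.AlgGrp1.IsCover pow := by
    refine ⟨hpf, hps, ?_⟩
    have : LocallyOfFinitePresentation (pow.left ≫ (Red.DS S ℤ).hom) := by rw [Over.w]; exact hfgi
    exact Groth.SpectralTopology.lfp_of_comp pow.left (Red.DS S ℤ).hom
  obtain ⟨μ', hμ'⟩ := hcov.exists_desc φ fun Z q q' hqq => by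
    have h1 : (q * q'⁻¹) ≫ pow = 1 := by
      let F : (Z ⟶ Red.DS S ℤ) →* (Z ⟶ Red.DS S ℤ) :=
        MonoidHom.mk' (fun x => x ≫ pow) (fun x y => mul_comp_dsHom _ x y)
      show F (q * q'⁻¹) = 1
      rw [map_mul, map_inv]
      exact mul_inv_eq_one.mpr hqq
    have h2 := hv Z _ h1
    rw [MonObj.mul_comp, GrpObj.inv_comp] at h2
    exact mul_inv_eq_one.mp h2
  have hmon : IsMonHom μ' := Groth.AlgGrp1.isMonHom_of_points _ fun Z z z' => by
    obtain ⟨Z', c, x, x', hc, hx, hx'⟩ := hcov.exists_lift₂ z z'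
    apply hc.cancel
    rw [← Category.assoc, MonObj.comp_mul c z z', MonObj.comp_mul, ← hx, ← hx', ← Category.assoc c z,
      ← hx, ← Category.assoc c z', ← hx', ← mul_comp_dsHom (n • AddMonoidHom.id ℤ) x x', Category.assoc, Category.assoc, Category.assoc,
      hμ', MonObj.mul_comp]
  refine ⟨μ', hmon, ?_⟩
  have e := P.char_dsHom (n • AddMonoidHom.id ℤ) μ'
  simp only [show dsHom (n • AddMonoidHom.id ℤ) ≫ μ' = φ from hμ'] at e
  rw [h] at e
  ext m
  have := DFunLike.congr_fun e m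
  simpa [hn] using this.symm

end Groth.Cochar
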