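import Groth.Agent.Hopf.Cochar.Basic
import Mathlib.LinearAlgebra.FreeModule.PID

/-!
The largest split subtorus of a group of multiplicative type over a connected base.
-/

set_option autoImplicit false
universe u

open CategoryTheory CategoryTheory.Limits MonoidalCategory CartesianMonoidalCategory MonObj GrpObj AlgebraicGeometry
open Groth.Reductive Groth.Reductive.FreeDiag

noncomputable section

namespace Groth.Cochar

/-- A map to `ℤ ^ r` with saturated transpose image is surjective. -/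
theorem surjective_pi_of_saturated {M : Type} [AddCommGroup M] {r : ℕ} (A : M →+ (Fin r → ℤ))
    (h1 : ∀ θ : (Fin r → ℤ) →+ ℤ, θ.comp A = 0 → θ = 0)
    (h2 : ∀ (θ : (Fin r → ℤ) →+ ℤ) (n : ℕ) (b : M →+ ℤ), n ≠ 0 → θ.comp A = n • b →
      ∃ θ' : (Fin r → ℤ) →+ ℤ, θ'.comp A = b) : Function.Surjective A := by
  let R := A.toIntLinearMap.range
  obtain ⟨n, snf⟩ := Submodule.smithNormalForm (Pi.basisFun ℤ (Fin r)) R
  have key : ∀ j : Fin r, ∃ i, snf.f i = j := by
    intro j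
    by_contra hj
    push Not at hj
    have e : (snf.bM.coord j).toAddMonoidHom = 0 := h1 _ (AddMonoidHom.ext fun m => by
      have := snf.repr_eq_zero_of_notMem_range ⟨A m, ⟨m, rfl⟩⟩ (i := j)
        (by rintro ⟨i, hi⟩; exact hj i hi)
      simpa using this)
    simpa using DFunLike.congr_fun e (snf.bM j)
  have ha : ∀ i, IsUnit (snf.a i) := by
    intro i
    let θ := (snf.bM.coord (snf.f i)).toAddMonoidHom
    have hdvd : ∀ m, snf.a i ∣ θ (A m) := fun m => by
      have := snf.repr_apply_embedding_eq_repr_smul (m := ⟨A m, ⟨m, rfl⟩⟩) (i := i)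
      exact ⟨snf.bN.repr ⟨A m, ⟨m, rfl⟩⟩ i, by simpa [θ, mul_comm] using this⟩
    by_cases h0 : snf.a i = 0
    · have e : θ = 0 := h1 θ (AddMonoidHom.ext fun m => by
        have h := hdvd m
        rw [h0, zero_dvd_iff] at h
        exact h)
      simpa [θ] using DFunLike.congr_fun e (snf.bM (snf.f i))
    · let b : M →+ ℤ := AddMonoidHom.mk' (fun m => θ (A m) / ((snf.a i).natAbs : ℤ)) fun x y => by
        rw [map_add, map_add, Int.add_ediv_of_dvd_left]
        exact Int.natAbs_dvd.mpr (hdvd x)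
      have hb : θ.comp A = (snf.a i).natAbs • b := AddMonoidHom.ext fun m => by
        rw [AddMonoidHom.smul_apply, nsmul_eq_mul]
        exact (Int.mul_ediv_cancel' (Int.natAbs_dvd.mpr (hdvd m))).symm
      obtain ⟨θ', hθ'⟩ := h2 θ _ b (Int.natAbs_ne_zero.mpr h0) hb
      have e : θ - (snf.a i).natAbs • θ' = 0 := h1 _ (AddMonoidHom.ext fun m => by
        have h3 := DFunLike.congr_fun hb m
        have h4 := DFunLike.congr_fun hθ' m
        simp only [AddMonoidHom.comp_apply, AddMonoidHom.smul_apply] at h3 h4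
        simp [h3, h4])
      have h5 := DFunLike.congr_fun e (snf.bM (snf.f i))
      simp [θ, sub_eq_zero] at h5
      have hu : IsUnit |snf.a i| := IsUnit.of_mul_eq_one _ h5.symm
      rwa [Int.isUnit_iff_abs_eq, abs_abs, ← Int.isUnit_iff_abs_eq] at hu
  have htop : ∀ j, snf.bM j ∈ R := by
    intro j
    obtain ⟨i, rfl⟩ := key j
    obtain ⟨c, hc⟩ := ha i
    have h := R.smul_mem ((c⁻¹ : ℤˣ) : ℤ) (snf.bN i).2
    rwa [snf.snf, smul_smul, ← hc, Units.inv_mul, one_smul] at h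
  intro z
  have hz : z ∈ R := by
    rw [← snf.bM.sum_repr z]
    exact R.sum_mem fun j _ => R.smul_mem _ (htop j)
  exact hz

variable {S : Scheme.{u}} {G : Over S} [GrpObj G]

theorem fg_pi (r : ℕ) : AddGroup.FG (Fin r → ℤ) := Module.Finite.iff_addGroup_fg.mp inferInstance

theorem fg_int : AddGroup.FG ℤ := Module.Finite.iff_addGroup_fg.mp inferInstance

/-- Translate the split torus condition into an isomorphism of monoid objects. -/
theorem exists_iso_of_split {N : Type} [AddCommGroup N] {T : Over S} [GrpObj T]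
    (h : Red.IsSplitTorusWith N T) : ∃ i : T ≅ Red.DS S N, IsMonHom i.hom ∧ IsMonHom i.inv := by
  obtain ⟨e⟩ := h
  exact ⟨(Grp.forget _).mapIso e, inferInstanceAs (IsMonHom e.hom.hom.hom),
    inferInstanceAs (IsMonHom e.inv.hom.hom)⟩

theorem isSplitTorusWith_DS (N : Type) [AddCommGroup N] : Red.IsSplitTorusWith N (Red.DS S N) :=
  ⟨Iso.refl _⟩

/-- The cocharacters of `G`, as maps of character groups at the point. -/
def lattice (hG : SGA3x.IsMultTypeFT G) (P : Pt G) : AddSubgroup (P.M →+ ℤ) where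
  carrier := {a | ∃ (φ : Red.DS S ℤ ⟶ G) (_ : IsMonHom φ), P.char φ = a}
  zero_mem' := ⟨1, isMonHom_one, by have := isMonHom_one (G := G) (H := Red.DS S ℤ); exact P.char_one⟩
  add_mem' := by
    rintro _ _ ⟨φ, _, rfl⟩ ⟨ψ, _, rfl⟩
    have := isMonHom_mul hG φ ψ
    exact ⟨φ * ψ, this, P.char_mul φ ψ⟩
  neg_mem' := by
    rintro _ ⟨φ, _, rfl⟩
    have h1 := isMonHom_inv hG φ
    have h2 := isMonHom_mul hG φ⁻¹ φ
    refine ⟨φ⁻¹, h1, eq_neg_of_add_eq_zero_left ?_⟩
    have h3 := isMonHom_one (G := G) (H := Red.DS S ℤ)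
    rw [← P.char_mul]
    simp only [inv_mul_cancel]
    exact P.char_one

theorem exists_basis (hG : SGA3x.IsMultTypeFT G) (P : Pt G) :
    ∃ (r : ℕ) (a : Fin r → lattice hG P),
      (∀ θ : (Fin r → ℤ) →+ ℤ, θ.comp (Pi.addMonoidHom fun i => (a i : P.M →+ ℤ)) = 0 → θ = 0) ∧
      ∀ b ∈ lattice hG P, ∃ θ : (Fin r → ℤ) →+ ℤ,
        θ.comp (Pi.addMonoidHom fun i => (a i : P.M →+ ℤ)) = b := by
  have := P.fg
  obtain ⟨s, hs⟩ := AddGroup.fg_def.mp P.fg
  let ev : (P.M →+ ℤ) →ₗ[ℤ] (s → ℤ) := (AddMonoidHom.mk' (fun a (x : s) => a x.1) fun _ _ => rfl).toIntLinearMap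
  have hev : Function.Injective ev := fun a b h => AddMonoidHom.eq_of_eqOn_dense hs fun x hx => congrFun h ⟨x, hx⟩
  let X := (lattice hG P).toIntSubmodule.map ev
  obtain ⟨r, ⟨B⟩⟩ := Submodule.nonempty_basis_of_pid (Pi.basisFun ℤ s) X
  choose a haX ha using fun i => Submodule.mem_map.mp (B i).2
  let A : P.M →+ (Fin r → ℤ) := Pi.addMonoidHom fun i => a i
  have hsum : ∀ θ : (Fin r → ℤ) →+ ℤ, θ.comp A = ∑ i, θ (Pi.single i 1) • a i := by
    intro θ
    refine AddMonoidHom.ext fun m => ?_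
    rw [AddMonoidHom.finsetSum_apply]
    have e : A m = ∑ i, (a i m) • (Pi.single i 1 : Fin r → ℤ) := by
      rw [pi_eq_sum_univ' (A m)]
      rfl
    rw [AddMonoidHom.comp_apply, e, map_sum]
    refine Finset.sum_congr rfl fun i _ => ?_
    rw [map_zsmul, smul_eq_mul, AddMonoidHom.smul_apply, smul_eq_mul, mul_comm]
  refine ⟨r, fun i => ⟨a i, haX i⟩, fun θ hθ => ?_, fun b hb => ?_⟩
  · rw [hsum] at hθ
    have e : ∑ i, θ (Pi.single i 1) • B i = 0 := by
      apply Subtype.ext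
      rw [Submodule.coe_sum, Submodule.coe_zero, ← ev.map_zero, ← hθ, map_sum]
      simp [ha]
    have h0 := Fintype.linearIndependent_iff.mp B.linearIndependent _ e
    refine AddMonoidHom.functions_ext ℤ _ _ fun i x => ?_
    rw [show (Pi.single i x : Fin r → ℤ) = x • Pi.single i 1 by ext j; simp [Pi.single_apply]]
    rw [map_zsmul, h0 i, smul_zero]
    rfl
  · let c := B.repr ⟨ev b, Submodule.mem_map_of_mem hb⟩
    refine ⟨(∑ i, c i • (Pi.evalAddMonoidHom (fun _ : Fin r => ℤ) i)), hev ?_⟩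
    rw [hsum, map_sum]
    have e := congrArg Subtype.val (B.sum_repr ⟨ev b, Submodule.mem_map_of_mem hb⟩)
    rw [Submodule.coe_sum] at e
    refine Eq.trans ?_ e
    refine Finset.sum_congr rfl fun i _ => ?_
    simp [c, ha, Pi.single_apply]

/-- Over a connected base there is a split subtorus through which every cocharacter factors. -/
theorem exists_max [ConnectedSpace S] (hG : SGA3x.IsMultTypeFT G) :
    ∃ (r : ℕ) (Φ : Red.DS S (Fin r → ℤ) ⟶ G) (_ : IsMonHom Φ), Mono Φ ∧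
      (∀ (φ : Red.DS S ℤ ⟶ G) [IsMonHom φ], ∃ g, IsMonHom g ∧ g ≫ Φ = φ) ∧
      ∀ (k : ℕ) (φ : Red.DS S (Fin k → ℤ) ⟶ G) [IsMonHom φ], ∃ g, IsMonHom g ∧ g ≫ Φ = φ := by
  classical
  obtain ⟨P⟩ := nonempty_pt hG
  obtain ⟨r, a, hind, hspan⟩ := exists_basis hG P
  let A : P.M →+ (Fin r → ℤ) := Pi.addMonoidHom fun i => (a i : P.M →+ ℤ)
  have hsum : ∀ t : Finset (Fin r), ∃ (Φ : Red.DS S (Fin r → ℤ) ⟶ G) (_ : IsMonHom Φ),
      P.char Φ = ∑ i ∈ t, (AddMonoidHom.single (fun _ : Fin r => ℤ) i).comp (a i : P.M →+ ℤ) := by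
    intro t
    induction t using Finset.induction with
    | empty =>
      have := isMonHom_one (G := G) (H := Red.DS S (Fin r → ℤ))
      exact ⟨1, this, by rw [P.char_one, Finset.sum_empty]⟩
    | @insert i t hit ih =>
      obtain ⟨Φ, _, hΦ⟩ := ih
      obtain ⟨φ, _, hφ⟩ := (a i).2
      have := isMonHom_mul hG (dsHom (AddMonoidHom.single (fun _ : Fin r => ℤ) i) ≫ φ) Φ
      refine ⟨_, this, ?_⟩
      rw [P.char_mul, P.char_dsHom, hφ, hΦ, Finset.sum_insert hit]
  obtain ⟨Φ, _, hΦ⟩ := hsum Finset.univ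
  have hA : P.char Φ = A := by
    rw [hΦ]
    refine AddMonoidHom.ext fun m => funext fun j => ?_
    simp [A, Finset.sum_apply, Pi.single_apply]
    rfl
  have hsurj : Function.Surjective A := surjective_pi_of_saturated A hind fun θ n b hn hb => by
    refine hspan b ?_
    obtain ⟨φ, _, hφ⟩ : ∃ (φ : Red.DS S ℤ ⟶ G) (_ : IsMonHom φ), P.char φ = θ.comp A :=
      ⟨dsHom θ ≫ Φ, inferInstance, by rw [P.char_dsHom, hA]⟩
    obtain ⟨μ', hμ', he⟩ := exists_div hG P n hn φ b (hφ.trans hb)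
    exact ⟨μ', hμ', he⟩
  have hfac : ∀ (k : ℕ) (φ : Red.DS S (Fin k → ℤ) ⟶ G) [IsMonHom φ],
      ∃ g, IsMonHom g ∧ g ≫ Φ = φ := by
    intro k φ _
    choose θ hθ using fun j => hspan _
      ⟨dsHom (Pi.evalAddMonoidHom (fun _ : Fin k => ℤ) j) ≫ φ, inferInstance, P.char_dsHom _ φ⟩
    refine ⟨dsHom (Pi.addMonoidHom θ), inferInstance, P.char_injective hG (fg_pi k) _ _ ?_⟩
    rw [P.char_dsHom, hA]
    exact AddMonoidHom.ext fun m => funext fun j => DFunLike.congr_fun (hθ j) m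
  refine ⟨r, Φ, inferInstance, ?_, fun φ _ => ?_, hfac⟩
  · obtain ⟨U, hUc, hUiff, hUm⟩ := exists_clopen_prop (MorphismProperty.monomorphisms Scheme.{u})
      (fun f ↦ Function.Surjective f) (fun f hf ↦ mono_dsHom f hf)
      (fun {K} _ {M N} _ _ f (_ : Mono _) ↦ surjective_of_mono_dsHom (K := K) f)
      (isMultTypeFT_DS (fg_pi r)) hG Φ
    have hm : Mono (dsHom (T := Spec (CommRingCat.of P.L)) A).left := mono_dsHom A hsurj
    have hm' : Mono (dsHom (T := Spec (CommRingCat.of P.L)) A) :=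
      (Over.forget _).mono_of_mono_map hm
    have : Mono ((Over.pullback P.p).map Φ) := ⟨fun {Z} x y hxy => by
      apply (bcPointEquiv P.p _ Z).injective
      obtain ⟨x', hx'⟩ := (dsPtEquiv P.p (Fin r → ℤ) Z).surjective (bcPointEquiv P.p _ Z x)
      obtain ⟨y', hy'⟩ := (dsPtEquiv P.p (Fin r → ℤ) Z).surjective (bcPointEquiv P.p _ Z y)
      have hn : ∀ z : Z ⟶ Red.bc P.p (Red.DS S (Fin r → ℤ)),
          bcPointEquiv P.p G Z (z ≫ (Over.pullback P.p).map Φ) = bcPointEquiv P.p _ Z z ≫ Φ :=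
        fun z => Adjunction.homEquiv_naturality_right_symm _ _ _
      have h1 := congrArg (bcPointEquiv P.p G Z) hxy
      rw [hn, hn, ← hx', ← hy'] at h1
      have h2 : x' ≫ P.res Φ = y' ≫ P.res Φ := by rw [P.comp_res, P.comp_res, h1]
      rw [P.res_eq, hA, cancel_mono] at h2
      rw [← hx', ← hy', h2]⟩
    have hs : P.p.base (IsLocalRing.closedPoint P.L) ∈ U :=
      (hUiff _).mpr ((prop_map_fieldPoint_iff Φ (MorphismProperty.monomorphisms Scheme.{u}) P.L P.p).mp
        ((Over.forget _).map_mono ((Over.pullback P.p).map Φ)))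
    have hU : U = ⊤ := TopologicalSpace.Opens.ext (IsClopen.eq_univ ⟨hUc, U.2⟩ ⟨_, hs⟩)
    subst hU
    haveI : IsIso (⊤ : S.Opens).ι := by rw [← Scheme.topIso_hom]; infer_instance
    haveI : Mono ((Over.pullback (⊤ : S.Opens).ι).map Φ).left := hUm
    have sq := isPullback_map_left Φ (⊤ : S.Opens).ι
    haveI : Mono (Limits.pullback.fst (Red.DS S (Fin r → ℤ)).hom (⊤ : S.Opens).ι ≫ Φ.left) := by
      rw [sq.w]; infer_instance
    haveI : Mono Φ.left := by
      rw [← IsIso.inv_hom_id_assoc (Limits.pullback.fst (Red.DS S (Fin r → ℤ)).hom (⊤ : S.Opens).ι) Φ.left]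
      infer_instance
    exact (Over.forget S).mono_of_mono_map this
  · obtain ⟨θ, hθ⟩ := hspan _ ⟨φ, inferInstance, rfl⟩
    refine ⟨dsHom θ, inferInstance, P.char_injective hG fg_int _ _ ?_⟩
    rw [P.char_dsHom, hA]
    exact hθ

end Groth.Cochar
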