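import Groth.Agent.Hopf.Cochar.TorusImage

/-!
Locally split subtori of groups of multiplicative type: directedness and greatest element.
-/

set_option autoImplicit false
universe u

open CategoryTheory CategoryTheory.Limits MonoidalCategory CartesianMonoidalCategory MonObj GrpObj AlgebraicGeometry
open Groth.Reductive Groth.Reductive.FreeDiag Groth.Cochar.Img

noncomputable section

namespace Groth.Cochar

variable {S : Scheme.{u}} {G : Over S} [GrpObj G]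

/-- Two locally split subtori are contained in a third. -/
theorem exists_sup (hG : SGA3x.IsMultTypeFT G) {E₁ E₂ : Over S} [GrpObj E₁] [GrpObj E₂]
    (j₁ : E₁ ⟶ G) [IsMonHom j₁] (j₂ : E₂ ⟶ G) [IsMonHom j₂]
    (h₁ : ∀ s : S, ∃ U : S.Opens, s ∈ U ∧ ∃ r : ℕ, Red.IsSplitTorusWith (Fin r → ℤ) (Red.bc U.ι E₁))
    (h₂ : ∀ s : S, ∃ U : S.Opens, s ∈ U ∧ ∃ r : ℕ, Red.IsSplitTorusWith (Fin r → ℤ) (Red.bc U.ι E₂)) :
    ∃ (E₃ : Over S) (_ : GrpObj E₃) (j₃ : E₃ ⟶ G) (g₁ : E₁ ⟶ E₃) (g₂ : E₂ ⟶ E₃), IsMonHom j₃ ∧ Mono j₃ ∧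
      (∀ s : S, ∃ U : S.Opens, s ∈ U ∧ ∃ r : ℕ, Red.IsSplitTorusWith (Fin r → ℤ) (Red.bc U.ι E₃)) ∧
      g₁ ≫ j₃ = j₁ ∧ g₂ ≫ j₃ = j₂ := by
  let f : E₁ ⊗ E₂ ⟶ G := (fst E₁ E₂ ≫ j₁) * (snd E₁ E₂ ≫ j₂)
  haveI : IsMonHom f := isMonHom_mul hG _ _
  obtain ⟨K, _, i, hi, g, -, -, hmono, -, hgi, hK⟩ := exists_torus_image hG (locSplit_tensor h₁ h₂) f
  refine ⟨K, inferInstance, i, lift (𝟙 E₁) 1 ≫ g, lift 1 (𝟙 E₂) ≫ g, hi, hmono, hK, ?_, ?_⟩
  · rw [Category.assoc, hgi, MonObj.comp_mul, lift_fst_assoc, lift_snd_assoc, Category.id_comp,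
      MonObj.one_comp, _root_.mul_one]
  · rw [Category.assoc, hgi, MonObj.comp_mul, lift_fst_assoc, lift_snd_assoc, Category.id_comp,
      MonObj.one_comp, _root_.one_mul]

theorem isMultTypeFT_of_locSplit {E : Over S} [GrpObj E]
    (h : ∀ s : S, ∃ U : S.Opens, s ∈ U ∧ ∃ r : ℕ, Red.IsSplitTorusWith (Fin r → ℤ) (Red.bc U.ι E)) :
    SGA3x.IsMultTypeFT E :=
  ⟨S, 𝟙 S, inferInstance, inferInstance, fun V hV => ⟨V, hV.isCompact, by simp⟩, fun s => by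
    obtain ⟨U, hs, r, hr⟩ := h s
    refine ⟨U, hs, Fin r → ℤ, inferInstance, fg_pi r, ?_⟩
    rw [Category.comp_id]
    exact hr⟩

variable {L : Type u} [Field L]

theorem le_of_mono_field {r r' : ℕ} (w : Red.DS (Spec (CommRingCat.of L)) (Fin r → ℤ) ⟶ Red.DS _ (Fin r' → ℤ))
    [IsMonHom w] [Mono w] : r ≤ r' := by
  obtain ⟨a, rfl⟩ := exists_dsHom_eq w
  haveI := (Over.forget _).map_mono (dsHom (T := Spec (CommRingCat.of L)) a)
  have hs : Function.Surjective a := @surjective_of_mono_dsHom _ _ _ _ L _ a this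
  simpa using LinearMap.finrank_le_finrank_of_surjective (f := a.toIntLinearMap) hs

/-- The rank at a point. -/
def HasRank (p : Spec (CommRingCat.of L) ⟶ S) (E : Over S) [GrpObj E] (r : ℕ) : Prop :=
  ∃ i : Red.DS (Spec (CommRingCat.of L)) (Fin r → ℤ) ≅ Red.bc p E, IsMonHom i.hom

theorem exists_hasRank (p : Spec (CommRingCat.of L) ⟶ S) {E : Over S} [GrpObj E]
    (h : ∀ s : S, ∃ U : S.Opens, s ∈ U ∧ ∃ r : ℕ, Red.IsSplitTorusWith (Fin r → ℤ) (Red.bc U.ι E)) :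
    ∃ r, HasRank p E r := by
  obtain ⟨U, hs, r, hr⟩ := h (p.base (IsLocalRing.closedPoint L))
  obtain ⟨k, _, hk⟩ := exists_iso_of_split hr
  haveI : IsMonHom k.symm.hom := hk
  have hrange : Set.range p ⊆ Set.range U.ι := by
    rw [Scheme.Opens.range_ι]
    rintro _ ⟨y, rfl⟩
    rw [Subsingleton.elim y (IsLocalRing.closedPoint L)]
    exact hs
  obtain ⟨i, hi⟩ := exists_trivialisation_comp E (IsOpenImmersion.lift U.ι p hrange) U.ι k.symm
  have h0 : ∃ i : Red.DS (Spec (CommRingCat.of L)) (Fin r → ℤ) ≅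
      Red.bc (IsOpenImmersion.lift U.ι p hrange ≫ U.ι) E, IsMonHom i.hom := ⟨i, hi⟩
  rw [IsOpenImmersion.lift_fac] at h0
  exact ⟨r, h0⟩

/-- The greatest locally split subtorus over a connected base. -/
theorem exists_greatest [ConnectedSpace S] (hG : SGA3x.IsMultTypeFT G) :
    ∃ (T : Over S) (_ : GrpObj T) (j : T ⟶ G), IsMonHom j ∧ Mono j ∧
      (∀ s : S, ∃ U : S.Opens, s ∈ U ∧ ∃ r : ℕ, Red.IsSplitTorusWith (Fin r → ℤ) (Red.bc U.ι T)) ∧
      ∀ (T' : Over S) [GrpObj T'] (j' : T' ⟶ G) [IsMonHom j'] [Mono j'],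
        (∀ s : S, ∃ U : S.Opens, s ∈ U ∧ ∃ r : ℕ, Red.IsSplitTorusWith (Fin r → ℤ) (Red.bc U.ι T')) →
          ∃ g : T' ⟶ T, g ≫ j = j' := by
  classical
  obtain ⟨P⟩ := nonempty_pt hG
  let Q : ℕ → Prop := fun r => ∃ (E : Over S) (_ : GrpObj E) (j : E ⟶ G), IsMonHom j ∧ Mono j ∧
    (∀ s : S, ∃ U : S.Opens, s ∈ U ∧ ∃ r : ℕ, Red.IsSplitTorusWith (Fin r → ℤ) (Red.bc U.ι E)) ∧
    HasRank P.p E r
  have hb : ∀ r, Q r → r ≤ Module.finrank ℤ P.M := by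
    rintro r ⟨E, _, j, _, _, -, i, hi⟩
    haveI : Module.Finite ℤ P.M := Module.Finite.iff_addGroup_fg.mpr P.fg
    let v : Red.DS (Spec (CommRingCat.of P.L)) (Fin r → ℤ) ⟶ Red.DS _ P.M :=
      i.hom ≫ (Over.pullback P.p).map j ≫ P.i.inv
    haveI : IsMonHom v := Groth.Abvar.isMonHom_comp hi
      (Groth.Abvar.isMonHom_comp (Groth.Abvar.isMonHom_map j) P.isMonHom_i_inv)
    haveI : Mono v := inferInstance
    obtain ⟨a, ha⟩ := exists_dsHom_eq v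
    haveI : Mono (dsHom (T := Spec (CommRingCat.of P.L)) a) := ha ▸ ‹Mono v›
    haveI := (Over.forget _).map_mono (dsHom (T := Spec (CommRingCat.of P.L)) a)
    have hs : Function.Surjective a := @surjective_of_mono_dsHom _ _ _ _ P.L _ a this
    simpa using LinearMap.finrank_le_finrank_of_surjective (f := a.toIntLinearMap) hs
  have hQ0 : Q 0 := by
    have h0 := isMonHom_one (G := G) (H := Red.DS S (Fin 0 → ℤ))
    exact ⟨_, inferInstance, 1, h0, ⟨fun x y _ => dsVal_ext fun m => by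
      rw [Subsingleton.elim m 1, ← dsValHom_apply, ← dsValHom_apply, map_one, map_one]⟩,
      fun s => ⟨⊤, trivial, 0, isSplitTorusWith_bc _ _⟩, bcDS P.p _, inferInstance⟩
  obtain ⟨T, instT, j, hj, hjm, hTs, hTr⟩ :=
    Nat.findGreatest_spec (Nat.zero_le (Module.finrank ℤ P.M)) hQ0
  refine ⟨T, instT, j, hj, hjm, hTs, fun T' _ j' _ _ hT' => ?_⟩
  haveI := hj
  obtain ⟨E₃, _, j₃, g₁, g₂, hj₃, hm₃, h₃, hg₁, hg₂⟩ := exists_sup hG j j' hTs hT'
  haveI := hj₃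
  haveI := hm₃
  obtain ⟨r₃, hr₃⟩ := exists_hasRank P.p h₃
  have hle : r₃ ≤ Nat.findGreatest Q (Module.finrank ℤ P.M) :=
    Nat.le_findGreatest (hb _ ⟨E₃, inferInstance, j₃, hj₃, hm₃, h₃, hr₃⟩) ⟨E₃, inferInstance, j₃, hj₃, hm₃, h₃, hr₃⟩
  obtain ⟨i, hi⟩ := hTr
  obtain ⟨i₃, hi₃⟩ := hr₃
  haveI : IsMonHom g₁ := isMonHom_of_comp g₁ j₃ j hg₁
  haveI : Mono (g₁ ≫ j₃) := hg₁ ▸ hjm
  haveI : Mono g₁ := mono_of_mono g₁ j₃
  haveI : IsMonHom ((Over.pullback P.p).map g₁) := Groth.Abvar.isMonHom_map g₁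
  haveI := hi
  haveI := hi₃
  haveI : IsMonHom i₃.inv := inferInstance
  let w := i.hom ≫ (Over.pullback P.p).map g₁ ≫ i₃.inv
  haveI : IsMonHom w := Groth.Abvar.isMonHom_comp hi
    (Groth.Abvar.isMonHom_comp (Groth.Abvar.isMonHom_map g₁) ‹IsMonHom i₃.inv›)
  haveI : Mono w := inferInstance
  have hge := le_of_mono_field w
  obtain rfl : r₃ = Nat.findGreatest Q (Module.finrank ℤ P.M) := le_antisymm hle hge
  haveI := isIso_of_mono_endo w
  have he : (Over.pullback P.p).map g₁ = i.inv ≫ w ≫ i₃.hom := by simp [w]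
  obtain ⟨U, hUc, hUiff, hUiso⟩ := exists_clopen_prop (MorphismProperty.isomorphisms Scheme.{u})
    (fun f ↦ Function.Bijective f) (fun f hf ↦ isIso_dsHom f hf)
    (fun {K} _ {M N} _ _ f (_ : IsIso _) ↦
      ⟨injective_of_epi_dsHom (K := K) f, surjective_of_mono_dsHom (K := K) f⟩)
    (isMultTypeFT_of_locSplit hTs) (isMultTypeFT_of_locSplit h₃) g₁
  have hiso : IsIso ((Over.pullback P.p).map g₁).left := by
    rw [he]
    exact (Over.forget _).map_isIso (i.inv ≫ w ≫ i₃.hom)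
  have hs : P.p.base (IsLocalRing.closedPoint P.L) ∈ U :=
    (hUiff _).mpr ((prop_map_fieldPoint_iff g₁ (MorphismProperty.isomorphisms Scheme.{u}) P.L P.p).mp hiso)
  have hU : U = ⊤ := TopologicalSpace.Opens.ext (IsClopen.eq_univ ⟨hUc, U.2⟩ ⟨_, hs⟩)
  subst hU
  haveI : IsIso (⊤ : S.Opens).ι := by rw [← Scheme.topIso_hom]; infer_instance
  haveI : IsIso ((Over.pullback (⊤ : S.Opens).ι).map g₁).left := hUiso
  have sq := isPullback_map_left g₁ (⊤ : S.Opens).ι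
  haveI : IsIso (Limits.pullback.fst T.hom (⊤ : S.Opens).ι ≫ g₁.left) := by
    rw [sq.w]; infer_instance
  haveI : IsIso ((Over.forget S).map g₁) :=
    IsIso.of_isIso_comp_left (Limits.pullback.fst T.hom (⊤ : S.Opens).ι) g₁.left
  haveI : IsIso g₁ := isIso_of_reflects_iso g₁ (Over.forget S)
  exact ⟨g₂ ≫ inv g₁, by rw [Category.assoc, (IsIso.inv_comp_eq g₁).mpr hg₁.symm, hg₂]⟩

end Groth.Cochar
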