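import Groth.Agent.Hopf.Cochar.QuotSplit
import Mathlib.Algebra.Module.PID

/-!
The maximal torus of a group of multiplicative type.
-/

set_option autoImplicit false
universe u

open CategoryTheory CategoryTheory.Limits MonoidalCategory CartesianMonoidalCategory MonObj GrpObj AlgebraicGeometry
open Groth.Reductive Groth.Reductive.FreeDiag Groth.Cochar.Img

noncomputable section

namespace Groth.Cochar

variable {S : Scheme.{u}}

/-- A finitely generated group maps onto a free one with bounded torsion kernel. -/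
theorem exists_free_quot {M : Type} [AddCommGroup M] (hM : AddGroup.FG M) :
    ∃ (r : ℕ) (π : M →+ (Fin r → ℤ)) (n₀ : ℕ), Function.Surjective π ∧ 0 < n₀ ∧ ∀ m, π m = 0 → n₀ • m = 0 := by
  haveI : Module.Finite ℤ M := Module.Finite.iff_addGroup_fg.mpr hM
  let Mq := M ⧸ Submodule.torsion ℤ M
  haveI : Module.Finite ℤ Mq := inferInstance
  haveI : Module.IsTorsionFree ℤ Mq := inferInstance
  haveI : Module.Free ℤ Mq := Module.free_of_finite_type_torsion_free'
  let b := Module.finBasis ℤ Mq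
  let π : M →+ (Fin (Module.finrank ℤ Mq) → ℤ) :=
    (b.equivFun.toLinearMap.comp (Submodule.torsion ℤ M).mkQ).toAddMonoidHom
  obtain ⟨t, ht⟩ := (inferInstance : IsNoetherian ℤ M).noetherian (Submodule.torsion ℤ M)
  have hx : ∀ x ∈ t, ∃ n : ℕ, 0 < n ∧ n • x = 0 := fun x hx => by
    have hmem : x ∈ Submodule.torsion ℤ M := by rw [← ht]; exact Submodule.subset_span hx
    obtain ⟨a, ha⟩ := (Submodule.mem_torsion_iff x).mp hmem
    refine ⟨(a : ℤ).natAbs, Int.natAbs_pos.mpr (nonZeroDivisors.coe_ne_zero a), ?_⟩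
    rcases Int.natAbs_eq (a : ℤ) with h | h
    · rw [← natCast_zsmul, ← h]; exact ha
    · rw [← natCast_zsmul, show ((a : ℤ).natAbs : ℤ) = -(a : ℤ) by omega, neg_smul]
      exact neg_eq_zero.mpr ha
  choose n hn hnx using hx
  refine ⟨_, π, ∏ x : t, n x.1 x.2, b.equivFun.surjective.comp (Submodule.mkQ_surjective _),
    Finset.prod_pos fun x _ => hn _ _, fun m hm => ?_⟩
  have hmem : m ∈ Submodule.torsion ℤ M :=
    (Submodule.Quotient.mk_eq_zero _).mp (b.equivFun.map_eq_zero_iff.mp hm)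
  rw [← ht] at hmem
  clear hm
  induction hmem using Submodule.span_induction with
  | mem x hx =>
    obtain ⟨k, hk⟩ := Finset.dvd_prod_of_mem (fun y : t => n y.1 y.2) (Finset.mem_univ ⟨x, hx⟩)
    rw [hk, mul_comm, mul_smul, hnx x hx, smul_zero]
  | zero => exact smul_zero _
  | add x y _ _ hx hy => rw [smul_add, hx, hy, add_zero]
  | smul c x _ hx => rw [smul_comm, hx, smul_zero]

/-- The `n`-th power map. -/
def pw (H : Over S) [GrpObj H] (n : ℕ) : H ⟶ H := (𝟙 H) ^ n

theorem comp_pw {H : Over S} [GrpObj H] (n : ℕ) {Z : Over S} (x : Z ⟶ H) : x ≫ pw H n = x ^ n := by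
  induction n with
  | zero => rw [pw, pow_zero, pow_zero, MonObj.comp_one]
  | succ n ih =>
    have e : pw H (n + 1) = pw H n * 𝟙 H := pow_succ _ _
    rw [e, MonObj.comp_mul, ih, Category.comp_id, pow_succ]

theorem pw_comp {H G : Over S} [GrpObj H] [GrpObj G] (n : ℕ) (f : H ⟶ G) [IsMonHom f] :
    pw H n ≫ f = f ≫ pw G n := by
  rw [comp_pw]
  induction n with
  | zero => rw [pw, pow_zero, pow_zero, MonObj.one_comp]
  | succ n ih =>
    have e : pw H (n + 1) = pw H n * 𝟙 H := pow_succ _ _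
    rw [e, MonObj.mul_comp, ih, Category.id_comp, pow_succ]

theorem map_pw {T : Scheme.{u}} (g : T ⟶ S) (H : Over S) [GrpObj H] (n : ℕ) :
    (Over.pullback g).map (pw H n) = pw (Red.bc g H) n := by
  apply (bcPointEquiv g H _).injective
  rw [← Category.id_comp ((Over.pullback g).map (pw H n)), ← Category.id_comp (pw (Red.bc g H) n),
    bcPointEquiv_comp_map, comp_pw, comp_pw, map_pow]

theorem pw_DS {M : Type} [AddCommGroup M] (n : ℕ) : pw (Red.DS S M) n = dsHom (n • AddMonoidHom.id M) := by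
  induction n with
  | zero => rw [pw, pow_zero, zero_smul, dsHom_zero]
  | succ n ih =>
    have e : pw (Red.DS S M) (n + 1) = pw (Red.DS S M) n * 𝟙 _ := pow_succ _ _
    rw [e, ih, succ_nsmul, dsHom_add, dsHom_id]

theorem fq_dsHom {M N : Type} [AddCommGroup M] [AddCommGroup N] (hM : AddGroup.FG M) (hN : AddGroup.FG N)
    (f : M →+ N) (hf : Function.Injective f) : FQ (dsHom (T := S) f).left := by
  obtain ⟨h1, h2⟩ := flat_surjective_dsHom (T := S) f hf
  haveI : IsAffineHom (Red.DS S N).hom := (props (isMultTypeFT_DS hN)).1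
  haveI : IsAffineHom (Red.DS S M).hom := (props (isMultTypeFT_DS hM)).1
  haveI : QuasiCompact ((dsHom (T := S) f).left ≫ (Red.DS S M).hom) := by rw [Over.w]; infer_instance
  exact ⟨h1, h2, QuasiCompact.of_comp _ (Red.DS S M).hom⟩

theorem pw_transfer {T : Scheme.{u}} (g : T ⟶ S) (H : Over S) [GrpObj H] {M : Type} [AddCommGroup M]
    (e : Red.DS T M ≅ Red.bc g H) [IsMonHom e.hom] (n : ℕ) :
    (Over.pullback g).map (pw H n) = e.inv ≫ dsHom (n • AddMonoidHom.id M) ≫ e.hom := by
  rw [map_pw, ← pw_DS, pw_comp, Iso.inv_hom_id_assoc]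

variable (H : Over S) [GrpObj H]

/-- The ideal of the maximal torus. -/
def torIdeal : H.left.IdealSheafData := ⨆ n : ℕ, (pw H n.factorial).left.ker

/-- The maximal torus. -/
def tor : Over S := Over.mk ((torIdeal H).subschemeι ≫ H.hom)

/-- Its inclusion. -/
def torι : tor H ⟶ H := Over.homMk (torIdeal H).subschemeι rfl

instance : IsClosedImmersion (torι H).left := inferInstanceAs (IsClosedImmersion (torIdeal H).subschemeι)

instance : Mono (torι H) := Over.mono_of_mono_left _

theorem quasiCompact_pw (hH : SGA3x.IsMultTypeFT H) (n : ℕ) : QuasiCompact (pw H n).left := by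
  haveI : IsAffineHom H.hom := (props hH).1
  haveI : QuasiCompact ((pw H n).left ≫ H.hom) := by rw [Over.w]; infer_instance
  exact QuasiCompact.of_comp _ H.hom

/-- Over a chart the torus is the torus part. -/
theorem tor_chart (hH : SGA3x.IsMultTypeFT H) {U : Scheme.{u}} (j : U ⟶ S) [Flat j] {M : Type} [AddCommGroup M]
    (hM : AddGroup.FG M) (e : Red.DS U M ≅ Red.bc j H) [IsMonHom e.hom] :
    ∃ (r : ℕ) (ε : Red.DS U (Fin r → ℤ) ≅ Red.bc j (tor H)) (n : ℕ) (w : Red.bc j H ⟶ Red.bc j (tor H)),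
      IsMonHom (ε.hom ≫ (Over.pullback j).map (torι H)) ∧ 0 < n ∧
      w ≫ (Over.pullback j).map (torι H) = (Over.pullback j).map (pw H n) := by
  classical
  obtain ⟨r, π, n₀, hπ, hn₀, hker⟩ := exists_free_quot hM
  have hdesc : ∀ m m' : M, π m = π m' → n₀ • m = n₀ • m' := fun m m' h => by
    rw [← sub_eq_zero, ← smul_sub]
    exact hker _ (by rw [map_sub, h, sub_self])
  let bf : (Fin r → ℤ) → M := fun y => n₀ • (hπ y).choose
  have hb : ∀ m, bf (π m) = n₀ • m := fun m => hdesc _ _ (hπ (π m)).choose_spec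
  let b : (Fin r → ℤ) →+ M := AddMonoidHom.mk' bf fun y y' => by
    obtain ⟨m, rfl⟩ := hπ y
    obtain ⟨m', rfl⟩ := hπ y'
    rw [← map_add, hb, hb, hb, smul_add]
  have hbπ : b.comp π = n₀ • AddMonoidHom.id M := AddMonoidHom.ext fun m => hb m
  have hbinj : ∀ k : ℕ, 0 < k → Function.Injective (k • b) := fun k hk =>
    (injective_iff_map_eq_zero _).mpr fun y hy => by
      obtain ⟨m, rfl⟩ := hπ y
      have h0 : k • n₀ • m = 0 := by rw [← hb m]; exact hy
      have h1 : (k * n₀ : ℕ) • π m = 0 := by rw [mul_smul, ← map_nsmul, ← map_nsmul, h0, map_zero]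
      funext i
      have h2 := congrFun h1 i
      simp only [Pi.smul_apply, Pi.zero_apply, nsmul_eq_mul, mul_eq_zero, Nat.cast_eq_zero] at h2
      rcases h2 with h2 | h2
      · exfalso
        have : 0 < k * n₀ := Nat.mul_pos hk hn₀
        omega
      · exact h2
  have hfg := fg_pi r
  let c : Red.DS U (Fin r → ℤ) ⟶ Red.bc j H := dsHom π ≫ e.hom
  haveI : IsIso e.hom.left := inferInstanceAs (IsIso ((Over.forget _).map e.hom))
  haveI : IsIso e.inv.left := inferInstanceAs (IsIso ((Over.forget _).map e.inv))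
  haveI : IsClosedImmersion c.left := by
    haveI := isClosedImmersion_dsHom (T := U) π hπ
    rw [Over.comp_left]; infer_instance
  let g := pullback.fst H.hom j
  haveI : Flat g := MorphismProperty.pullback_fst _ _ ‹Flat j›
  have hkmap : ∀ n : ℕ, ((pw H n).left.ker).comap g =
      ((dsHom (T := U) (n • AddMonoidHom.id M)).left ≫ e.hom.left).ker := by
    intro n
    haveI := quasiCompact_pw H hH n
    rw [← ker_of_isPullback_flat (isPullback_map_left (pw H n) j), pw_transfer j H e n, Over.comp_left,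
      Over.comp_left]
    exact Scheme.Hom.ker_comp_of_isIso _ _
  have hmul : ∀ k : ℕ, 0 < k →
      ((dsHom (T := U) ((k * n₀) • AddMonoidHom.id M)).left ≫ e.hom.left).ker = c.left.ker := by
    intro k hk
    have e1 : (k • b).comp π = (k * n₀) • AddMonoidHom.id M :=
      AddMonoidHom.ext fun m => by
        show k • b (π m) = (k * n₀) • m
        rw [mul_smul]; exact congrArg _ (hb m)
    haveI := fq_dsHom (S := U) hfg hM (k • b) (hbinj k hk)
    obtain ⟨_, _, _⟩ := fq_dsHom (S := U) hfg hM (k • b) (hbinj k hk)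
    haveI := dominant_of_flat_surjective (dsHom (T := U) (k • b)).left
    rw [← e1, ← dsHom_comp, Over.comp_left, Category.assoc, Scheme.Hom.ker_comp,
      (dsHom (T := U) (k • b)).left.ker_eq_bot, Scheme.IdealSheafData.map_bot, ← Over.comp_left]
  have hcomap : (torIdeal H).comap g = c.left.ker := by
    rw [torIdeal, (Scheme.IdealSheafData.map_gc g).l_iSup]
    refine le_antisymm (iSup_le fun n => ?_) ?_
    · rw [hkmap, ← hmul n.factorial n.factorial_pos,
        show (n.factorial * n₀) • AddMonoidHom.id M =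
          (n₀ • AddMonoidHom.id M).comp (n.factorial • AddMonoidHom.id M) from
          AddMonoidHom.ext fun m => by
            show (n.factorial * n₀) • m = n₀ • n.factorial • m
            rw [mul_comm, mul_smul],
        ← dsHom_comp, Over.comp_left, Category.assoc]
      exact Scheme.Hom.le_ker_comp _ _
    · refine le_trans ?_ (le_iSup (fun n : ℕ => ((pw H n.factorial).left.ker).comap g) n₀)
      rw [hkmap, show n₀.factorial = (n₀ - 1).factorial * n₀ by
        rw [mul_comm]; exact (Nat.mul_factorial_pred hn₀.ne').symm,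
        hmul _ (n₀ - 1).factorial_pos]
  have hki : ((Over.pullback j).map (torι H)).left.ker = c.left.ker := by
    rw [ker_of_isPullback_flat (isPullback_map_left (torι H) j), ← hcomap]
    show ((torIdeal H).subschemeι.ker).comap g = _
    rw [Scheme.IdealSheafData.ker_subschemeι]
  haveI : IsClosedImmersion ((Over.pullback j).map (torι H)).left :=
    MorphismProperty.of_isPullback (isPullback_map_left (torι H) j) inferInstance
  let l := IsClosedImmersion.lift ((Over.pullback j).map (torι H)).left c.left hki.le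
  have hl : l ≫ ((Over.pullback j).map (torι H)).left = c.left := IsClosedImmersion.lift_fac _ _ _
  haveI : IsIso l := IsClosedImmersion.isIso_of_ker_eq c.left _ l hl hki.symm
  let ε : Red.DS U (Fin r → ℤ) ≅ Red.bc j (tor H) := Over.isoMk (asIso l) (by
    show l ≫ _ = _
    rw [← Over.w ((Over.pullback j).map (torι H)), ← Category.assoc, hl, Over.w c])
  have hε : ε.hom ≫ (Over.pullback j).map (torι H) = c := Over.OverMorphism.ext hl
  refine ⟨r, ε, n₀, e.inv ≫ dsHom b ≫ ε.hom, ?_, hn₀, ?_⟩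
  · rw [hε]; infer_instance
  · rw [pw_transfer j H e, Category.assoc, Category.assoc, hε, ← hbπ, ← dsHom_comp, Category.assoc]

theorem exists_chart_at (hH : SGA3x.IsMultTypeFT H) (s : S) :
    ∃ (U : Scheme.{u}) (j : U ⟶ S) (_ : Flat j) (M : Type) (_ : AddCommGroup M)
      (e : Red.DS U M ≅ Red.bc j H), AddGroup.FG M ∧ IsMonHom e.hom ∧ s ∈ Set.range j := by
  obtain ⟨S', f, hfl, hsurj, -, hloc⟩ := hH
  obtain ⟨t', rfl⟩ := hsurj.surj s
  obtain ⟨U, hU, M, hMg, hMfg, ⟨e⟩⟩ := hloc t'
  haveI := hfl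
  exact ⟨U, U.ι ≫ f, inferInstance, M, hMg, ((Grp.forget _).mapIso e).symm, hMfg,
    inferInstanceAs (IsMonHom e.inv.hom.hom), ⟨⟨t', hU⟩, rfl⟩⟩

/-- Factorisation through the torus may be checked on charts. -/
theorem factor_tor (hH : SGA3x.IsMultTypeFT H) {Y : Over S} (a : Y ⟶ H)
    (h : ∀ (U : Scheme.{u}) (j : U ⟶ S) (r : ℕ) (ε : Red.DS U (Fin r → ℤ) ≅ Red.bc j (tor H)),
      IsMonHom (ε.hom ≫ (Over.pullback j).map (torι H)) →
      ∃ w, w ≫ (Over.pullback j).map (torι H) = (Over.pullback j).map a) :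
    ∃ b : Y ⟶ tor H, b ≫ torι H = a := by
  refine exists_lift_of_family (torι H) a fun y => ?_
  obtain ⟨U, j, _, M, _, e, hM, _, hs⟩ := exists_chart_at H hH (Y.hom.base y)
  obtain ⟨r, ε, n, w', hc, -, -⟩ := tor_chart H hH j hM e
  obtain ⟨w, hw⟩ := h U j r ε hc
  obtain ⟨u₀, hu₀⟩ := hs
  obtain ⟨z, hz, -⟩ := Scheme.Pullback.exists_preimage_pullback (f := Y.hom) (g := j) y u₀ hu₀.symm
  refine ⟨(Over.map j).obj (Red.bc j Y), Over.homMk (pullback.fst Y.hom j) pullback.condition,
    MorphismProperty.pullback_fst _ _ ‹Flat j›,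
    ((Over.mapPullbackAdj j).homEquiv _ _).symm w, ⟨z, hz⟩, ?_⟩
  have e1 := (Over.mapPullbackAdj j).homEquiv_naturality_right_symm w (torι H)
  rw [hw] at e1
  rw [← e1, show (Over.pullback j).map a = 𝟙 _ ≫ (Over.pullback j).map a from (Category.id_comp _).symm]
  refine ((Over.mapPullbackAdj j).homEquiv_naturality_right_symm (𝟙 _) a).trans ?_
  congr 1

theorem exists_grpObj_tor (hH : SGA3x.IsMultTypeFT H) : ∃ _ : GrpObj (tor H), IsMonHom (torι H) := by
  let P : ∀ ⦃T : Over S⦄, (T ⟶ H) → Prop := fun T x => ∃ z : T ⟶ tor H, z ≫ torι H = x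
  have hmapmul : ∀ {U : Scheme.{u}} (j : U ⟶ S) {Y : Over S} (x y : Y ⟶ H),
      (Over.pullback j).map (x * y) = ((Over.pullback j).map x * (Over.pullback j).map y) :=
    by intros; exact Functor.map_mul _ _ _
  obtain ⟨m, hm⟩ := factor_tor H hH ((fst (tor H) (tor H) ≫ torι H) * (snd (tor H) (tor H) ≫ torι H))
    fun U j r ε hc => by
      haveI := hc
      refine ⟨(((Over.pullback j).map (fst _ _) ≫ ε.inv) * ((Over.pullback j).map (snd _ _) ≫ ε.inv)) ≫ ε.hom, ?_⟩
      rw [Category.assoc, MonObj.mul_comp, hmapmul, Functor.map_comp, Functor.map_comp, Category.assoc,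
        Category.assoc, Iso.inv_hom_id_assoc]
  obtain ⟨v, hv⟩ := factor_tor H hH (torι H)⁻¹ fun U j r ε hc => by
      haveI := hc
      refine ⟨ε.inv⁻¹ ≫ ε.hom, ?_⟩
      let φ : (tor H ⟶ H) →* ((Over.pullback j).obj (tor H) ⟶ Red.bc j H) :=
        MonoidHom.mk' (fun x => (Over.pullback j).map x) (hmapmul j)
      rw [Category.assoc, GrpObj.inv_comp, Iso.inv_hom_id_assoc]
      exact (map_inv φ _).symm
  obtain ⟨o, ho⟩ := factor_tor H hH (1 : 𝟙_ (Over S) ⟶ H) fun U j r ε hc => by
      haveI := hc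
      let φ : (𝟙_ (Over S) ⟶ H) →* ((Over.pullback j).obj (𝟙_ (Over S)) ⟶ Red.bc j H) :=
        MonoidHom.mk' (fun x => (Over.pullback j).map x) (hmapmul j)
      refine ⟨1 ≫ ε.hom, ?_⟩
      rw [Category.assoc, MonObj.one_comp]
      exact (map_one φ).symm
  exact Groth.Agf.exists_grpObj_of_subgroup (torι H) P (fun _ _ => Iff.rfl)
    (fun T => ⟨toUnit T ≫ o, by rw [Category.assoc, ho, MonObj.comp_one]⟩)
    (fun T a b ⟨x, hx⟩ ⟨y, hy⟩ => ⟨lift x y ≫ m, by
      rw [Category.assoc, hm, MonObj.comp_mul, lift_fst_assoc, lift_snd_assoc, hx, hy]⟩)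
    (fun T a ⟨x, hx⟩ => ⟨x ≫ v, by rw [Category.assoc, hv, GrpObj.comp_inv, hx]⟩)

theorem isTorus_tor (hH : SGA3x.IsMultTypeFT H) [GrpObj (tor H)] [IsMonHom (torι H)] : Red.IsTorus (tor H) := by
  obtain ⟨S', f, hfl, hsurj, hqc, hloc⟩ := id hH
  haveI := hfl
  refine ⟨S', f, hfl, hsurj, hqc, fun x => ?_⟩
  obtain ⟨U, hx, M, hMg, hMfg, ⟨e⟩⟩ := hloc x
  let e' : Red.DS (U : Scheme.{u}) M ≅ Red.bc (U.ι ≫ f) H := ((Grp.forget _).mapIso e).symm
  haveI : IsMonHom e'.hom := inferInstanceAs (IsMonHom e.inv.hom.hom)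
  obtain ⟨r, ε, n, w, hc, -, -⟩ := tor_chart H hH (U.ι ≫ f) hMfg e'
  haveI := hc
  haveI : Mono ((Over.pullback (U.ι ≫ f)).map (torι H)) := inferInstance
  haveI : IsMonHom ((Over.pullback (U.ι ≫ f)).map (torι H)) := Groth.Abvar.isMonHom_map (torι H)
  have hε : IsMonHom ε.hom := isMonHom_of_comp ε.hom _ (ε.hom ≫ (Over.pullback (U.ι ≫ f)).map (torι H)) rfl
  exact ⟨U, hx, r, ⟨(Grp.mkIso ε hε.one_hom hε.mul_hom).symm⟩⟩

/-- The power maps of a torus are faithfully flat. -/
theorem fq_pw_of_torus {R : Over S} [GrpObj R] (hR : Red.IsTorus R) (n : ℕ) (hn : 0 < n) : FQ (pw R n).left := by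
  have hRm := isMultTypeFT_of_isTorus hR
  obtain ⟨S', f, hfl, hsurj, -, hloc⟩ := hR
  haveI := hfl
  have hch : ∀ s : S, ∃ (U : Scheme.{u}) (j : U ⟶ S) (_ : Flat j), s ∈ Set.range j ∧
      FQ ((Over.pullback j).map (pw R n)).left := by
    intro s
    obtain ⟨t', rfl⟩ := hsurj.surj s
    obtain ⟨U, hU, r, hr⟩ := hloc t'
    obtain ⟨i, hi, hi'⟩ := exists_iso_of_split hr
    haveI : IsMonHom i.symm.hom := hi'
    refine ⟨U, U.ι ≫ f, inferInstance, ⟨⟨t', hU⟩, rfl⟩, ?_⟩
    rw [pw_transfer (U.ι ≫ f) R i.symm n, Over.comp_left, Over.comp_left]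
    haveI : IsIso i.symm.inv.left := inferInstanceAs (IsIso ((Over.forget _).map i.symm.inv))
    haveI : IsIso i.symm.hom.left := inferInstanceAs (IsIso ((Over.forget _).map i.symm.hom))
    refine (FQ.of_iso i.symm.inv.left).comp ((fq_dsHom (fg_pi r) (fg_pi r) _ fun x y hxy => ?_).comp (FQ.of_iso i.symm.hom.left))
    funext k
    have := congrFun hxy k
    simpa [hn.ne'] using this
  refine ⟨flat_of_jointly _ fun x => ?_, ⟨fun y => ?_⟩, quasiCompact_pw R hRm n⟩
  · obtain ⟨U, j, _, ⟨u₀, hu₀⟩, hfq⟩ := hch (R.hom.base x)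
    haveI : Flat (pullback.fst R.hom j) := MorphismProperty.pullback_fst _ _ ‹Flat j›
    haveI := hfq.1
    obtain ⟨z, hz, -⟩ := Scheme.Pullback.exists_preimage_pullback (f := R.hom) (g := j) x u₀ hu₀.symm
    refine ⟨_, pullback.fst R.hom j, inferInstance, ⟨z, hz⟩, ?_⟩
    rw [(isPullback_map_left (pw R n) j).w]
    infer_instance
  · obtain ⟨U, j, _, ⟨u₀, hu₀⟩, hfq⟩ := hch (R.hom.base y)
    obtain ⟨z, hz, -⟩ := Scheme.Pullback.exists_preimage_pullback (f := R.hom) (g := j) y u₀ hu₀.symm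
    obtain ⟨z', hz'⟩ := hfq.2.1.surj z
    refine ⟨pullback.fst R.hom j z', ?_⟩
    rw [← hz, ← hz', ← Scheme.Hom.comp_apply, (isPullback_map_left (pw R n) j).w]
    rfl

/-- Every subtorus lies in the torus. -/
theorem factor_tor_of_torus {R : Over S} [GrpObj R] (j : R ⟶ H) [IsMonHom j] (hR : Red.IsTorus R) :
    ∃ g : R ⟶ tor H, g ≫ torι H = j := by
  have hle : torIdeal H ≤ j.left.ker := iSup_le fun n => by
    obtain ⟨_, _, _⟩ := fq_pw_of_torus hR n.factorial n.factorial_pos
    haveI := dominant_of_flat_surjective (pw R n.factorial).left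
    refine (Scheme.Hom.le_ker_comp j.left (pw H n.factorial).left).trans (le_of_eq ?_)
    rw [← Over.comp_left, ← pw_comp, Over.comp_left, Scheme.Hom.ker_comp,
      (pw R n.factorial).left.ker_eq_bot, Scheme.IdealSheafData.map_bot]
  let l := IsClosedImmersion.lift (torIdeal H).subschemeι j.left
    (by rw [Scheme.IdealSheafData.ker_subschemeι]; exact hle)
  have hl : l ≫ (torIdeal H).subschemeι = j.left := IsClosedImmersion.lift_fac _ _ _
  exact ⟨Over.homMk l (by show l ≫ (torIdeal H).subschemeι ≫ H.hom = R.hom; rw [reassoc_of% hl, Over.w]),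
    Over.OverMorphism.ext hl⟩

/-- The torus is maximal on geometric fibres. -/
theorem isMaximalTorus_tor (hH : SGA3x.IsMultTypeFT H) [GrpObj (tor H)] [IsMonHom (torι H)] :
    Red.IsMaximalTorus (torι H) := by
  refine ⟨inferInstance, inferInstance, isTorus_tor H hH, fun s T' _ j' _ _ f hT' hf => ?_⟩
  let gp := Red.geomPt s
  have hgs : ∀ x, gp.base x = s := fun x => by
    rw [Scheme.Hom.comp_apply, Scheme.fromSpecResidueField_apply]
  obtain ⟨U, j, _, M, _, e, hM, _, ⟨u₀, hu₀⟩⟩ := exists_chart_at H hH s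
  obtain ⟨r, ε, n, w, hc, hn, hw⟩ := tor_chart H hH j hM e
  obtain ⟨z, -, -⟩ := Scheme.Pullback.exists_preimage_pullback (f := gp) (g := j)
    (IsLocalRing.closedPoint _) u₀ ((hgs _).trans hu₀.symm)
  let L := (pullback gp j).residueField z
  let q := (pullback gp j).fromSpecResidueField z ≫ pullback.fst gp j
  let q₁ := (pullback gp j).fromSpecResidueField z ≫ pullback.snd gp j
  have hq : q ≫ gp = q₁ ≫ j := by simp only [q, q₁, Category.assoc, pullback.condition]
  let θ : Over.pullback gp ⋙ Over.pullback q ≅ Over.pullback j ⋙ Over.pullback q₁ :=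
    (Over.pullbackComp q gp).symm ≪≫ eqToIso (congrArg (fun z => Over.pullback z) hq) ≪≫ Over.pullbackComp q₁ j
  let iq := (Over.pullback q).map ((Over.pullback gp).map (torι H))
  let wq : Red.bc q (Red.bc gp H) ⟶ Red.bc q (Red.bc gp (tor H)) :=
    θ.hom.app H ≫ (Over.pullback q₁).map w ≫ θ.inv.app (tor H)
  have hwq : wq ≫ iq = (Over.pullback q).map ((Over.pullback gp).map (pw H n)) := by
    have h1 : θ.inv.app (tor H) ≫ iq =
        (Over.pullback q₁).map ((Over.pullback j).map (torι H)) ≫ θ.inv.app H :=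
      (θ.inv.naturality (torι H)).symm
    have h2 : (Over.pullback q).map ((Over.pullback gp).map (pw H n)) ≫ θ.hom.app H =
        θ.hom.app H ≫ (Over.pullback q₁).map ((Over.pullback j).map (pw H n)) :=
      θ.hom.naturality (pw H n)
    rw [show wq ≫ iq = θ.hom.app H ≫ (Over.pullback q₁).map w ≫ θ.inv.app (tor H) ≫ iq by
      simp [wq], h1, ← Category.assoc ((Over.pullback q₁).map w), ← Functor.map_comp, hw,
      ← Category.assoc, ← h2, Category.assoc, Iso.hom_inv_id_app]
    exact Category.comp_id _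
  -- `f` becomes an isomorphism over `L`
  haveI : IsClosedImmersion ((Over.pullback gp).map (torι H)).left :=
    MorphismProperty.of_isPullback (isPullback_map_left (torι H) gp) inferInstance
  haveI : IsClosedImmersion iq.left :=
    MorphismProperty.of_isPullback (isPullback_map_left ((Over.pullback gp).map (torι H)) q) inferInstance
  let jq := (Over.pullback q).map j'
  haveI : IsMonHom jq := Groth.Abvar.isMonHom_map j'
  have hfqT : FQ (pw (Red.bc q T') n).left := by
    rw [← map_pw]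
    exact (fq_pw_of_torus hT' n hn).pullback (isPullback_map_left (pw T' n) q)
  obtain ⟨g, hg⟩ := exists_lift iq jq (pw (Red.bc q T') n) hfqT (jq ≫ wq) (by
    rw [Category.assoc, hwq, map_pw, map_pw, ← pw_comp])
  let fq := (Over.pullback q).map f
  have hfq : fq ≫ jq = iq := by simp only [fq, jq, iq, ← Functor.map_comp, hf]; rfl
  haveI : Mono iq := Over.mono_of_mono_left iq
  haveI : Mono jq := inferInstance
  haveI : IsIso fq := ⟨g, by rw [← cancel_mono iq, Category.assoc, hg, hfq, Category.id_comp],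
    by rw [← cancel_mono jq, Category.assoc, hfq, hg, Category.id_comp]⟩
  have hqF : Flat q ∧ Surjective q ∧ QuasiCompact q := by
    haveI hqc : QuasiCompact q := by
      haveI : IsAffine (Spec (CommRingCat.of (AlgebraicClosure (S.residueField s)))) := inferInstance
      exact HasAffineProperty.iff_of_isAffine (P := @QuasiCompact).mpr inferInstance
    refine ⟨?_, ⟨fun y => ⟨IsLocalRing.closedPoint L, Subsingleton.elim _ _⟩⟩, hqc⟩
    obtain ⟨φ, hφ⟩ := Spec.map_surjective q
    rw [← hφ, Flat.SpecMap_iff]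
    let K := AlgebraicClosure (S.residueField s)
    letI : Algebra K L := φ.hom.toAlgebra
    exact inferInstanceAs (Module.Flat K L)
  obtain ⟨_, _, _⟩ := hqF
  haveI : IsIso fq.left := inferInstanceAs (IsIso ((Over.forget _).map fq))
  haveI : Flat (pullback.fst T'.hom q) := MorphismProperty.pullback_fst _ _ ‹Flat q›
  haveI : Surjective (pullback.fst T'.hom q) := MorphismProperty.pullback_fst _ _ ‹Surjective q›
  haveI : QuasiCompact (pullback.fst T'.hom q) := MorphismProperty.pullback_fst _ _ ‹QuasiCompact q›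
  haveI : IsIso f.left := MorphismProperty.of_isPullback_of_descendsAlong
    (P := MorphismProperty.isomorphisms Scheme.{u}) (Q := Groth.DescentBase.SFQ)
    (isPullback_map_left f q).flip (Groth.DescentBase.sfq _) ‹IsIso fq.left›
  haveI : IsIso ((Over.forget _).map f) := ‹IsIso f.left›
  exact isIso_of_reflects_iso f (Over.forget _)

end Groth.Cochar
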