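import Groth.Agent.Hopf.Cochar.MaxRank
import Groth.Agent.Hopf.GenExt.Cochar
import Groth.Agent.S2280

/-!
Split subtori over open subsets of a connected normal base.
-/

set_option autoImplicit false
universe u

open CategoryTheory CategoryTheory.Limits MonoidalCategory CartesianMonoidalCategory MonObj GrpObj AlgebraicGeometry
open Groth.Reductive Groth.Reductive.FreeDiag Groth.Reductive.MTInt

noncomputable section

namespace Groth.Cochar

variable {S : Scheme.{u}}

/-- A cocharacter over a non-empty open of an integral normal base extends. -/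
theorem exists_extend [IsIntegral S] [IsLocallyNoetherian S]
    (hnorm : ∀ x : S, IsIntegrallyClosed (S.presheaf.stalk x)) {T : Over S} [GrpObj T]
    (hT : SGA3x.IsMultTypeFT T) (U : S.Opens) [Nonempty U]
    (lamU : Red.bc U.ι (Red.Gm S) ⟶ Red.bc U.ι T) [IsMonHom lamU] :
    ∃ u : Red.Gm S ⟶ T, IsMonHom u ∧ (Over.pullback U.ι).map u = lamU := by
  have hη : genericPoint S ∈ U := by
    obtain ⟨⟨x, hx⟩⟩ := ‹Nonempty U›
    exact (genericPoint_specializes x).mem_open U.2 hx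
  let ζ := S.fromSpecResidueField (genericPoint S)
  have hr : Set.range ζ ⊆ Set.range U.ι := by
    rw [Scheme.Opens.range_ι, Scheme.range_fromSpecResidueField]
    simpa using hη
  let jη := IsOpenImmersion.lift U.ι ζ hr
  have hfwd : ∀ Z : Over S, Groth.GenExt.Gen ζ Z → Groth.GenExt.Gen U.ι Z := fun Z ⟨l, hl⟩ =>
    ⟨l ≫ jη, by rw [Category.assoc, IsOpenImmersion.lift_fac]; exact hl⟩
  have := Groth.GenExt.smooth_Gm S
  have hLT := locTriv_of_multTypeFT hT
  let Φ := Groth.GenExt.GenHom.ofHom U.ι lamU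
  obtain ⟨u, hu, hval⟩ := Groth.GenExt.exists_ext hnorm
    (Groth.GenExt.connectedSpace_fibre_Gm S) hLT (Groth.GenExt.GenHom.change hfwd Φ)
  refine ⟨u, hu, ?_⟩
  apply (bcPointEquiv U.ι T _).injective
  rw [Groth.GenExt.bcPointEquiv_map]
  have h0 : Groth.GenExt.Gen U.ι ((Over.map U.ι).obj (Red.bc U.ι (Red.Gm S))) :=
    ⟨(Red.bc U.ι (Red.Gm S)).hom, rfl⟩
  haveI : Flat ((Over.map U.ι).obj (Red.bc U.ι (Red.Gm S))).hom := by
    have : Flat (Red.Gm S).hom := inferInstance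
    show Flat ((Red.bc U.ι (Red.Gm S)).hom ≫ U.ι)
    have : Flat (Red.bc U.ι (Red.Gm S)).hom := MorphismProperty.pullback_snd _ _ this
    infer_instance
  refine Groth.GenExt.hom_ext_generic hLT.1 fun Z hZ x => ?_
  rw [← Category.assoc, hval Z hZ, ← Groth.GenExt.GenHom.ofHom_univ U.ι lamU h0]
  exact Φ.nat x h0 (hfwd Z hZ) _

variable {T T₀ : Over S} [GrpObj T] [GrpObj T₀]

/-- A homomorphism from a split torus factors through `a` if its coordinates do. -/
theorem exists_factor_of_coords {U : Scheme.{u}} {A B : Over U} [GrpObj A] [GrpObj B] (a : A ⟶ B) [IsMonHom a]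
    {r : ℕ} (φ : Red.DS U (Fin r → ℤ) ⟶ B) [IsMonHom φ]
    (h : ∀ j, ∃ g : Red.DS U ℤ ⟶ A, g ≫ a = dsHom (Pi.evalAddMonoidHom (fun _ : Fin r => ℤ) j) ≫ φ) :
    ∃ g, g ≫ a = φ := by
  classical
  choose g hg using h
  let e := fun j => (AddMonoidHom.single (fun _ : Fin r => ℤ) j).comp (Pi.evalAddMonoidHom (fun _ : Fin r => ℤ) j)
  have key : ∀ t : Finset (Fin r), ∃ G', G' ≫ a = dsHom (∑ j ∈ t, e j) ≫ φ := by
    intro t
    induction t using Finset.induction with
    | empty => exact ⟨1, by rw [Finset.sum_empty, dsHom_zero, MonObj.one_comp, MonObj.one_comp]⟩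
    | @insert j t hjt ih =>
      obtain ⟨G', hG'⟩ := ih
      refine ⟨dsHom (AddMonoidHom.single (fun _ : Fin r => ℤ) j) ≫ g j * G', ?_⟩
      rw [Finset.sum_insert hjt, dsHom_add, MonObj.mul_comp, MonObj.mul_comp, hG', Category.assoc, hg,
        ← Category.assoc, dsHom_comp]
  obtain ⟨G', hG'⟩ := key Finset.univ
  refine ⟨G', hG'.trans ?_⟩
  have : ∑ j, e j = AddMonoidHom.id _ := AddMonoidHom.ext fun x => funext fun i => by
    simp [e, Finset.sum_apply, Pi.single_apply]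
  rw [this, dsHom_id, Category.id_comp]

/-- Over an open of a connected normal base, a split subtorus lies in the largest one. -/
theorem exists_factor_open [ConnectedSpace S] [IsLocallyNoetherian S]
    (hnorm : ∀ x : S, IsDomain (S.presheaf.stalk x) ∧ IsIntegrallyClosed (S.presheaf.stalk x))
    (hT : Red.IsTorus T) (j₀ : T₀ ⟶ T) [IsMonHom j₀]
    (hmax : ∀ (T' : Over S) [GrpObj T'] (j' : T' ⟶ T) [IsMonHom j'] [Mono j'] (r' : ℕ),
      Red.IsSplitTorusWith (Fin r' → ℤ) T' → ∃ g : T' ⟶ T₀, g ≫ j₀ = j')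
    (U : S.Opens) (T' : Over (U : Scheme.{u})) [GrpObj T'] (j' : T' ⟶ Red.bc U.ι T) [IsMonHom j']
    {r' : ℕ} (hT' : Red.IsSplitTorusWith (Fin r' → ℤ) T') :
    ∃ g : T' ⟶ Red.bc U.ι T₀, g ≫ (Over.pullback U.ι).map j₀ = j' := by
  haveI : IsIntegral S :=
    (Groth.PropsBasic2.irreducible_and_integral_iff S).2.mpr ⟨inferInstance, fun x => (hnorm x).1⟩
  rcases isEmpty_or_nonempty U with hU | hU
  · haveI : IsEmpty T'.left := Function.isEmpty T'.hom.base
    have hin : IsInitial T'.left := isInitialOfIsEmpty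
    exact ⟨Over.homMk (hin.to _) (hin.hom_ext _ _), Over.OverMorphism.ext (hin.hom_ext _ _)⟩
  obtain ⟨i, _, _⟩ := exists_iso_of_split hT'
  obtain ⟨r, Φ, _, hm, hfac, -⟩ := exists_max (isMultTypeFT_of_isTorus hT)
  obtain ⟨g₀, hg₀⟩ := hmax _ Φ r (isSplitTorusWith_DS _)
  haveI := Functor.monObjObj (F := Over.pullback U.ι) T₀
  obtain ⟨g, hg⟩ := exists_factor_of_coords ((Over.pullback U.ι).map j₀) (i.inv ≫ j') fun j => by
    obtain ⟨k, hk, hk'⟩ := exists_iso_bc_DS U.ι ℤ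
    obtain ⟨u, _, hu⟩ := exists_extend (fun x => (hnorm x).2) (isMultTypeFT_of_isTorus hT) U
      (k.inv ≫ dsHom (Pi.evalAddMonoidHom (fun _ : Fin r' => ℤ) j) ≫ i.inv ≫ j')
    obtain ⟨h, _, hh⟩ := hfac u
    refine ⟨k.hom ≫ (Over.pullback U.ι).map (h ≫ g₀), ?_⟩
    rw [Category.assoc, ← Functor.map_comp, Category.assoc, hg₀, hh, hu, Iso.hom_inv_id_assoc]
  exact ⟨i.hom ≫ g, by rw [Category.assoc, hg, Iso.hom_inv_id_assoc]⟩

/-- Factorisations through a monomorphism glue. -/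
theorem exists_factor_scheme {X Y Z : Scheme.{u}} (𝒱 : X.OpenCover) (m : Y ⟶ Z) [Mono m] (b : X ⟶ Z)
    (h : ∀ i, ∃ t, t ≫ m = 𝒱.f i ≫ b) : ∃ t, t ≫ m = b := by
  choose t ht using h
  refine ⟨Scheme.Cover.glueMorphisms 𝒱 t fun i k => ?_, ?_⟩
  · rw [← cancel_mono m, Category.assoc, Category.assoc, ht, ht, pullback.condition_assoc]
  · refine Scheme.Cover.hom_ext 𝒱 _ _ fun i => ?_
    rw [Scheme.Cover.ι_glueMorphisms_assoc, ht]

/-- Morphisms into a subobject glue. -/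
theorem exists_factor_of_cover {T₁ : Over S} (j₀ : T₀ ⟶ T) [Mono j₀] (j₁ : T₁ ⟶ T)
    (h : ∀ s : S, ∃ U : S.Opens, s ∈ U ∧
      ∃ g : Red.bc U.ι T₁ ⟶ Red.bc U.ι T₀, g ≫ (Over.pullback U.ι).map j₀ = (Over.pullback U.ι).map j₁) :
    ∃ g : T₁ ⟶ T₀, g ≫ j₀ = j₁ := by
  choose U hsU g hg using h
  let 𝒰 := S.openCoverOfIsOpenCover U (TopologicalSpace.IsOpenCover.mk (by ext z; simpa using ⟨z, hsU z⟩))
  haveI : Mono j₀.left := (Over.forget S).map_mono j₀
  have hw : ∀ s, ((g s).left ≫ pullback.fst T₀.hom (U s).ι) ≫ j₀.left = pullback.fst T₁.hom (U s).ι ≫ j₁.left := by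
    intro s
    have := congrArg (fun z => z.left ≫ pullback.fst T.hom (U s).ι) (hg s)
    simp at this
    erw [pullback.lift_fst, pullback.lift_fst] at this
    exact (Category.assoc _ _ _).trans this
  obtain ⟨G', hG'⟩ := exists_factor_scheme (Precoverage.ZeroHypercover.pullback₁ T₁.hom 𝒰) j₀.left j₁.left
    fun s => ⟨_, hw s⟩
  refine ⟨Over.homMk G' ?_, Over.OverMorphism.ext hG'⟩
  rw [← Over.w j₀, reassoc_of% hG', Over.w j₁]

end Groth.Cochar
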