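import Groth.Agent.Hopf.Cochar.TorusImage
import Groth.Agent.Reductive.QuotGrp

/-!
Quotients of split tori by subgroups of multiplicative type.
-/

set_option autoImplicit false
universe u

open CategoryTheory CategoryTheory.Limits MonoidalCategory CartesianMonoidalCategory MonObj GrpObj AlgebraicGeometry
open Groth.Reductive Groth.Reductive.FreeDiag Groth.Cochar.Img

noncomputable section

namespace Groth.Cochar

variable {S : Scheme.{u}}

/-- Comparison of points of the base change with the points of the original object. -/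
theorem bcPointEquiv_comp_map {X Y : Over S} [GrpObj X] [GrpObj Y] {T : Scheme.{u}} (j : T ⟶ S) (w : X ⟶ Y)
    {Z : Over T} (z : Z ⟶ Red.bc j X) :
    bcPointEquiv j Y Z (z ≫ (Over.pullback j).map w) = bcPointEquiv j X Z z ≫ w :=
  (Over.mapPullbackAdj j).homEquiv_naturality_right_symm z w

/-- A subgroup of multiplicative type of a diagonalisable group is diagonalisable, clopen-locally. -/
theorem exists_clopen_kernel {N : Type} [AddCommGroup N] (hN : AddGroup.FG N) {H : Over S} [GrpObj H]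
    (hH : SGA3x.IsMultTypeFT H) (i : H ⟶ Red.DS S N) [IsMonHom i] [Mono i] (s : S) :
    ∃ V : S.Opens, s ∈ V ∧ IsClosed (V : Set S) ∧ ∃ Λ : AddSubgroup N,
      ∀ (Z : Over S), (Z ⟶ Over.mk V.ι) → ∀ x : Z ⟶ Red.DS S N,
        (∃ y, y ≫ i = x) ↔ x ≫ dsHom Λ.subtype = 1 := by
  haveI : Module.Finite ℤ N := Module.Finite.iff_addGroup_fg.mpr hN
  obtain ⟨L, _, p, M, _, hM, hps, k, hk⟩ := exists_field_triv hH s
  let v : Red.DS (Spec (CommRingCat.of L)) M ⟶ Red.DS _ N :=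
    k.hom ≫ (Over.pullback p).map i ≫ (bcDS p N).inv
  haveI : IsMonHom v :=
    Groth.Abvar.isMonHom_comp hk (Groth.Abvar.isMonHom_comp (Groth.Abvar.isMonHom_map i) inferInstance)
  haveI : Mono ((Over.pullback p).map i) := inferInstance
  haveI : Mono v := inferInstance
  obtain ⟨a, ha⟩ := exists_dsHom_eq v
  haveI : Mono (dsHom (T := Spec (CommRingCat.of L)) a) := ha ▸ ‹Mono v›
  have hsurj : Function.Surjective a := by
    haveI := (Over.forget _).map_mono (dsHom (T := Spec (CommRingCat.of L)) a)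
    exact @surjective_of_mono_dsHom _ _ _ _ L _ a this
  have hmap : k.hom ≫ (Over.pullback p).map i = dsHom a ≫ (bcDS p N).hom := by
    rw [← ha]; simp [v]
  let Λ := a.ker
  have hQfg : AddGroup.FG (N ⧸ Λ) := Module.Finite.iff_addGroup_fg.mp
    (inferInstanceAs (Module.Finite ℤ (N ⧸ Λ.toIntSubmodule)))
  let κ : Red.DS S (N ⧸ Λ) ⟶ Red.DS S N := dsHom (QuotientAddGroup.mk' Λ)
  haveI : IsClosedImmersion κ.left := isClosedImmersion_dsHom _ (QuotientAddGroup.mk'_surjective Λ)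
  haveI : Mono κ := Over.mono_of_mono_left κ
  have hDN := isMultTypeFT_DS (T := S) hN
  haveI hicl : IsClosedImmersion i.left := by
    obtain ⟨U, -, hUiff, -⟩ := exists_clopen_prop @IsClosedImmersion
      (fun f ↦ Function.Surjective f) (fun f hf ↦ isClosedImmersion_dsHom f hf)
      (fun {K} _ {M N} _ _ f hf ↦ by
        haveI : IsClosedImmersion (dsHom (T := Spec (CommRingCat.of K)) f).left := hf
        exact surjective_of_mono_dsHom (K := K) f) hH hDN i
    obtain ⟨V', -, hV'iff, hV'⟩ := exists_clopen_prop @IsClosedImmersion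
      (fun f ↦ Function.Surjective f) (fun f hf ↦ isClosedImmersion_dsHom f hf)
      (fun {K} _ {M N} _ _ f hf ↦ by
        haveI : IsClosedImmersion (dsHom (T := Spec (CommRingCat.of K)) f).left := hf
        exact surjective_of_mono_dsHom (K := K) f) hH hDN i
    have htop : V' = ⊤ := top_unique fun t _ => by
      obtain ⟨L', _, p', M', _, -, hp', k', hk'⟩ := exists_field_triv hH t
      let v' : Red.DS (Spec (CommRingCat.of L')) M' ⟶ Red.DS _ N :=
        k'.hom ≫ (Over.pullback p').map i ≫ (bcDS p' N).inv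
      haveI : IsMonHom v' :=
        Groth.Abvar.isMonHom_comp hk' (Groth.Abvar.isMonHom_comp (Groth.Abvar.isMonHom_map i) inferInstance)
      haveI : Mono ((Over.pullback p').map i) := inferInstance
      haveI : Mono v' := inferInstance
      obtain ⟨a', ha'⟩ := exists_dsHom_eq v'
      haveI : Mono (dsHom (T := Spec (CommRingCat.of L')) a') := ha' ▸ ‹Mono v'›
      haveI := (Over.forget _).map_mono (dsHom (T := Spec (CommRingCat.of L')) a')
      have hs' : Function.Surjective a' := @surjective_of_mono_dsHom _ _ _ _ L' _ a' this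
      haveI := isClosedImmersion_dsHom (T := Spec (CommRingCat.of L')) a' hs'
      have e : (Over.pullback p').map i = k'.inv ≫ dsHom a' ≫ (bcDS p' N).hom := by
        rw [← ha']; simp [v']
      have hcl : IsClosedImmersion ((Over.pullback p').map i).left := by
        rw [e, Over.comp_left, Over.comp_left]
        haveI : IsIso k'.inv.left := inferInstanceAs (IsIso ((Over.forget _).map k'.inv))
        haveI : IsIso (bcDS p' N).hom.left := inferInstanceAs (IsIso ((Over.forget _).map (bcDS p' N).hom))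
        infer_instance
      rw [← hp']
      exact (hV'iff _).mpr ((prop_map_fieldPoint_iff i @IsClosedImmersion L' p').mp hcl)
    subst htop
    haveI : IsIso (⊤ : S.Opens).ι := by rw [← Scheme.topIso_hom]; infer_instance
    haveI : IsClosedImmersion ((Over.pullback (⊤ : S.Opens).ι).map i).left := hV'
    have sq := isPullback_map_left i (⊤ : S.Opens).ι
    haveI : IsClosedImmersion (pullback.fst H.hom (⊤ : S.Opens).ι ≫ i.left) := by
      rw [sq.w]; infer_instance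
    rw [← IsIso.inv_hom_id_assoc (pullback.fst H.hom (⊤ : S.Opens).ι) i.left]
    infer_instance
  obtain ⟨hNa, -, hNlfp⟩ := props hDN
  haveI := hNa
  haveI := hNlfp
  haveI := lfp_pullback_fst_eta hH (isMultTypeFT_DS (T := S) hQfg) (Or.inr hNlfp)
    ((fst H (Red.DS S (N ⧸ Λ)) ≫ i) * (snd H (Red.DS S (N ⧸ Λ)) ≫ κ)⁻¹)
  haveI := lfp_pullback_fst_eta (isMultTypeFT_DS (T := S) hQfg) hH (Or.inr hNlfp)
    ((fst (Red.DS S (N ⧸ Λ)) H ≫ κ) * (snd (Red.DS S (N ⧸ Λ)) H ≫ i)⁻¹)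
  have hc := comm_of_multTypeFT hDN
  obtain ⟨U₁, hU₁c, hU₁, hU₁iff⟩ := exists_clopen_facOn i κ (fun X x y => hc X _ _) hH
    (isMultTypeFT_DS (T := S) hQfg)
  obtain ⟨U₂, hU₂c, hU₂, hU₂iff⟩ := exists_clopen_facOn κ i (fun X x y => hc X _ _)
    (isMultTypeFT_DS (T := S) hQfg) hH
  have hkill : ∀ {Z : Over S} (x : Z ⟶ Red.DS S (N ⧸ Λ)), (x ≫ κ) ≫ dsHom Λ.subtype = 1 := fun x => by
    have h0 : (QuotientAddGroup.mk' Λ).comp Λ.subtype = 0 :=
      AddMonoidHom.ext fun l => (QuotientAddGroup.eq_zero_iff _).mpr l.2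
    rw [Category.assoc, dsHom_comp, h0, dsHom_zero, MonObj.comp_one]
  have hp₁ : FacOn i κ (Over.mk p) := fun W w x => by
    let Z : Over (Spec (CommRingCat.of L)) := Over.mk w.left
    let c : (Over.map p).obj Z ≅ W := Over.isoMk (Iso.refl _) (by
      show 𝟙 _ ≫ W.hom = w.left ≫ p
      rw [Category.id_comp]; exact (Over.w w).symm)
    let z := (bcPointEquiv p H Z).symm (c.hom ≫ x)
    have h1 : dsPtEquiv p N Z ((z ≫ k.inv) ≫ dsHom a) = c.hom ≫ x ≫ i := by
      have e := bcPointEquiv_comp_map p i z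
      rw [show z ≫ (Over.pullback p).map i = ((z ≫ k.inv) ≫ dsHom a) ≫ (bcDS p N).hom by
        rw [Category.assoc, Category.assoc, ← hmap, Iso.inv_hom_id_assoc], comp_bcDS,
        MulEquiv.apply_symm_apply, MulEquiv.apply_symm_apply, Category.assoc] at e
      exact e
    have h2 : (x ≫ i) ≫ dsHom Λ.subtype = 1 := by
      have h0 : a.comp Λ.subtype = 0 := AddMonoidHom.ext fun l => l.2
      rw [← cancel_epi c.hom, MonObj.comp_one, ← Category.assoc c.hom, ← h1, dsPtEquiv_dsHom,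
        Category.assoc, dsHom_comp, h0, dsHom_zero, MonObj.comp_one, map_one]
    obtain ⟨y, hy⟩ := exists_lift_quot Λ (x ≫ i) h2
    exact ⟨y, hy⟩
  have hp₂ : FacOn κ i (Over.mk p) := fun W w x => by
    let Z : Over (Spec (CommRingCat.of L)) := Over.mk w.left
    let c : (Over.map p).obj Z ≅ W := Over.isoMk (Iso.refl _) (by
      show 𝟙 _ ≫ W.hom = w.left ≫ p
      rw [Category.id_comp]; exact (Over.w w).symm)
    obtain ⟨x', hx'⟩ := (dsPtEquiv p (N ⧸ Λ) Z).surjective (c.hom ≫ x)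
    let e := QuotientAddGroup.quotientKerEquivOfSurjective a hsurj
    have hb : (e.symm : M →+ N ⧸ Λ).comp a = QuotientAddGroup.mk' Λ :=
      AddMonoidHom.ext fun n => e.symm_apply_eq.mpr rfl
    refine ⟨c.inv ≫ bcPointEquiv p H Z (x' ≫ dsHom (e.symm : M →+ N ⧸ Λ) ≫ k.hom), ?_⟩
    rw [← cancel_epi c.hom, Category.assoc, Iso.hom_inv_id_assoc, ← bcPointEquiv_comp_map, Category.assoc,
      Category.assoc, hmap, ← Category.assoc (dsHom _) (dsHom a), dsHom_comp, hb, ← Category.assoc,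
      comp_bcDS, MulEquiv.apply_symm_apply, ← dsPtEquiv_dsHom, hx', Category.assoc]
  refine ⟨U₁ ⊓ U₂, ⟨?_, ?_⟩, hU₁c.inter hU₂c, Λ, fun Z w x => ⟨?_, fun hx => ?_⟩⟩
  · rw [← hps]; exact (hU₁iff _).mpr ((facOn_fieldPoint_iff L p).mp hp₁)
  · rw [← hps]; exact (hU₂iff _).mpr ((facOn_fieldPoint_iff L p).mp hp₂)
  · rintro ⟨y, rfl⟩
    obtain ⟨y', hy'⟩ := hU₁ Z (w ≫ Over.homMk (S.homOfLE inf_le_left) (S.homOfLE_ι _)) y
    rw [← hy']
    exact hkill y'
  · obtain ⟨x', rfl⟩ := exists_lift_quot Λ x hx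
    exact hU₂ Z (w ≫ Over.homMk (S.homOfLE inf_le_right) (S.homOfLE_ι _)) x'

/-- Two covers with the same kernel have isomorphic targets. -/
theorem exists_iso_of_ker_eq {T A Q : Over S} [GrpObj T] [GrpObj A] [GrpObj Q] {f : T ⟶ A} [IsMonHom f]
    {q : T ⟶ Q} [IsMonHom q] (hf : AlgGrp1.IsCover f) (hq : AlgGrp1.IsCover q)
    (h : ∀ (Z : Over S) (x : Z ⟶ T), x ≫ f = 1 ↔ x ≫ q = 1) : ∃ e : A ≅ Q, IsMonHom e.hom ∧ f ≫ e.hom = q := by
  have key : ∀ {Z : Over S} (a b : Z ⟶ T), a ≫ f = b ≫ f ↔ a ≫ q = b ≫ q := fun {Z} a b => by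
    have h1 := h Z (a * b⁻¹)
    rw [MonObj.mul_comp, MonObj.mul_comp, GrpObj.inv_comp, GrpObj.inv_comp, mul_inv_eq_one,
      mul_inv_eq_one] at h1
    exact h1
  obtain ⟨u, hu⟩ := hf.exists_desc q fun Z a b hab => (key a b).mp hab
  obtain ⟨v, hv⟩ := hq.exists_desc f fun Z a b hab => (key a b).mpr hab
  have hmon : IsMonHom u := Groth.AlgGrp1.isMonHom_of_points _ fun Z z z' => by
    obtain ⟨Z', c, x, x', hc, hx, hx'⟩ := hf.exists_lift₂ z z'
    apply hc.cancel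
    rw [← Category.assoc, MonObj.comp_mul c z z', MonObj.comp_mul, ← hx, ← hx', ← Category.assoc c z,
      ← hx, ← Category.assoc c z', ← hx', ← MonObj.mul_comp, Category.assoc, Category.assoc, Category.assoc,
      hu, MonObj.mul_comp]
  exact ⟨⟨u, v, hf.cancel (by rw [← Category.assoc, hu, hv, Category.comp_id]),
    hq.cancel (by rw [← Category.assoc, hv, hu, Category.comp_id])⟩, hmon, hu⟩

theorem isCover_dsHom_subtype {N : Type} [AddCommGroup N] (hN : AddGroup.FG N) (Λ : AddSubgroup N) :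
    AlgGrp1.IsCover (dsHom (T := S) Λ.subtype) := by
  haveI : Module.Finite ℤ N := Module.Finite.iff_addGroup_fg.mpr hN
  have hΛfg : AddGroup.FG Λ :=
    Module.Finite.iff_addGroup_fg.mp (inferInstanceAs (Module.Finite ℤ Λ.toIntSubmodule))
  obtain ⟨hqf, hqs⟩ := flat_surjective_dsHom (T := S) Λ.subtype Λ.subtype_injective
  refine ⟨hqf, hqs, ?_⟩
  have hN' := (Groth.Reductive.ds_flat_lfp S N hN).2
  have hΛ' := (Groth.Reductive.ds_flat_lfp S Λ hΛfg).2
  have : LocallyOfFinitePresentation ((dsHom (T := S) Λ.subtype).left ≫ (Red.DS S Λ).hom) := by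
    rw [Over.w]; exact hN'
  exact Groth.SpectralTopology.lfp_of_comp (dsHom (T := S) Λ.subtype).left (Red.DS S Λ).hom

variable {T H Q : Over S} [GrpObj T] [GrpObj H] [GrpObj Q] (i : H ⟶ T) [IsMonHom i] (q : T ⟶ Q)

/-- The kernel of a quotient morphism. -/
theorem ker_of_isQuotient [IsMonHom q] (hq : RedSub.IsQuotient i q) (Z : Over S) (x : Z ⟶ T) :
    (∃ y, y ≫ i = x) ↔ x ≫ q = 1 := by
  have h := Groth.Reductive.comp_eq_iff hq (1 : Z ⟶ T) x
  rw [MonObj.one_comp] at h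
  refine ⟨fun ⟨y, hy⟩ => (h.mpr ⟨y, by rw [_root_.one_mul, hy]⟩).symm, fun hx => ?_⟩
  obtain ⟨y, hy⟩ := h.mp hx.symm
  exact ⟨y, by rw [hy, _root_.one_mul]⟩

theorem ker_bc [IsMonHom q] (hker : ∀ (Z : Over S) (x : Z ⟶ T), (∃ y, y ≫ i = x) ↔ x ≫ q = 1)
    {U : Scheme.{u}} (j : U ⟶ S) (Z : Over U) (z : Z ⟶ Red.bc j T) :
    (∃ y, y ≫ (Over.pullback j).map i = z) ↔ z ≫ (Over.pullback j).map q = 1 := by
  rw [← (bcPointEquiv j Q Z).injective.eq_iff, bcPointEquiv_comp_map, map_one, ← hker]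
  constructor
  · rintro ⟨y, rfl⟩
    exact ⟨_, (bcPointEquiv_comp_map j i y).symm⟩
  · rintro ⟨y, hy⟩
    refine ⟨(bcPointEquiv j H Z).symm y, (bcPointEquiv j T Z).injective ?_⟩
    rw [bcPointEquiv_comp_map, MulEquiv.apply_symm_apply, hy]

theorem isCover_map {X Y : Over S} (w : X ⟶ Y) (hw : AlgGrp1.IsCover w) {U : Scheme.{u}} (j : U ⟶ S) :
    AlgGrp1.IsCover ((Over.pullback j).map w) := by
  obtain ⟨h1, h2, h3⟩ := hw
  exact ⟨MorphismProperty.of_isPullback (isPullback_map_left w j) h1,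
    MorphismProperty.of_isPullback (isPullback_map_left w j) h2,
    MorphismProperty.of_isPullback (isPullback_map_left w j) h3⟩

theorem isCover_of_iso {X Y : Over S} (e : X ≅ Y) : AlgGrp1.IsCover e.hom := by
  haveI : IsIso e.hom.left := inferInstanceAs (IsIso ((Over.forget _).map e.hom))
  exact ⟨inferInstance, inferInstance, inferInstance⟩

/-- A quotient of a diagonalisable group by a subgroup of multiplicative type, clopen-locally. -/
theorem exists_clopen_quot {N : Type} [AddCommGroup N] (hN : AddGroup.FG N) (hH : SGA3x.IsMultTypeFT H)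
    (i' : H ⟶ Red.DS S N) [IsMonHom i'] [Mono i'] (q' : Red.DS S N ⟶ Q) [IsMonHom q']
    (hq : AlgGrp1.IsCover q')
    (hker : ∀ (Z : Over S) (x : Z ⟶ Red.DS S N), (∃ y, y ≫ i' = x) ↔ x ≫ q' = 1) (s : S) :
    ∃ V : S.Opens, s ∈ V ∧ IsClosed (V : Set S) ∧ ∃ (Λ : AddSubgroup N)
      (e : Red.DS (V : Scheme.{u}) Λ ≅ Red.bc V.ι Q), IsMonHom e.hom := by
  obtain ⟨V, hsV, hVc, Λ, hV⟩ := exists_clopen_kernel hN hH i' s
  let qV : Red.DS (V : Scheme.{u}) N ⟶ Red.bc V.ι Q := (bcDS V.ι N).hom ≫ (Over.pullback V.ι).map q'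
  haveI : IsMonHom qV := Groth.Abvar.isMonHom_comp inferInstance (Groth.Abvar.isMonHom_map q')
  obtain ⟨e, he, -⟩ := exists_iso_of_ker_eq (isCover_dsHom_subtype (S := (V : Scheme.{u})) hN Λ)
    (show AlgGrp1.IsCover qV from (isCover_of_iso (bcDS V.ι N)).comp (isCover_map q' hq V.ι)) fun Z z => by
      rw [← (bcPointEquiv V.ι Q Z).injective.eq_iff, map_one, bcPointEquiv_bcDS_map, ← hker,
        hV ((Over.map V.ι).obj Z) (Over.homMk Z.hom rfl), dsPtEquiv_dsHom,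
        MulEquiv.map_eq_one_iff]
  exact ⟨V, hsV, hVc, Λ, e, he⟩

/-- The quotient of a locally split torus by a subgroup of multiplicative type is locally split. -/
theorem locallySplit_quotient [IsMonHom q] [Mono i] (hH : SGA3x.IsMultTypeFT H)
    (hT : ∀ s : S, ∃ U : S.Opens, s ∈ U ∧ ∃ r : ℕ, Red.IsSplitTorusWith (Fin r → ℤ) (Red.bc U.ι T))
    (hq : AlgGrp1.IsCover q) (hker : ∀ (Z : Over S) (x : Z ⟶ T), (∃ y, y ≫ i = x) ↔ x ≫ q = 1) (s : S) :
    ∃ U : S.Opens, s ∈ U ∧ ∃ r : ℕ, Red.IsSplitTorusWith (Fin r → ℤ) (Red.bc U.ι Q) := by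
  obtain ⟨U, hsU, r, hr⟩ := hT s
  obtain ⟨k, hk, hk'⟩ := exists_iso_of_split hr
  haveI : IsMonHom ((Over.pullback U.ι).map i) := Groth.Abvar.isMonHom_map i
  haveI : IsMonHom ((Over.pullback U.ι).map q) := Groth.Abvar.isMonHom_map q
  let i' : Red.bc U.ι H ⟶ Red.DS (U : Scheme.{u}) (Fin r → ℤ) := (Over.pullback U.ι).map i ≫ k.hom
  let q' : Red.DS (U : Scheme.{u}) (Fin r → ℤ) ⟶ Red.bc U.ι Q := k.inv ≫ (Over.pullback U.ι).map q
  haveI : IsMonHom i' := Groth.Abvar.isMonHom_comp (Groth.Abvar.isMonHom_map i) hk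
  haveI : IsMonHom q' := Groth.Abvar.isMonHom_comp hk' (Groth.Abvar.isMonHom_map q)
  haveI : Mono i' := inferInstance
  obtain ⟨V, hsV, -, Λ, e, he⟩ := exists_clopen_quot (fg_pi r) (isMultTypeFT_bc hH U.ι) i' q'
    ((isCover_of_iso k.symm).comp (isCover_map q hq U.ι)) (fun Z x => by
      rw [← Category.assoc, ← ker_bc i q hker U.ι Z (x ≫ k.inv)]
      constructor
      · rintro ⟨y, rfl⟩; exact ⟨y, by simp [i']⟩
      · rintro ⟨y, hy⟩; exact ⟨y, by simp [i', reassoc_of% hy]⟩) ⟨s, hsU⟩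
  obtain ⟨n, ⟨b⟩⟩ := Submodule.nonempty_basis_of_pid (Pi.basisFun ℤ (Fin r)) Λ.toIntSubmodule
  let eb : Λ ≃+ (Fin n → ℤ) := (b.equivFun.toAddEquiv : Λ.toIntSubmodule ≃+ (Fin n → ℤ))
  haveI : IsIso (dsHom (T := (V : Scheme.{u})) (eb.toAddMonoidHom)).left := isIso_dsHom _ eb.bijective
  haveI : IsIso ((Over.forget _).map (dsHom (T := (V : Scheme.{u})) (eb.toAddMonoidHom))) :=
    inferInstanceAs (IsIso (dsHom (T := (V : Scheme.{u})) (eb.toAddMonoidHom)).left)
  haveI : IsIso (dsHom (T := (V : Scheme.{u})) (eb.toAddMonoidHom)) := isIso_of_reflects_iso _ (Over.forget _)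
  let α : Red.bc V.ι (Red.bc U.ι Q) ≅ Red.bc (V.ι ≫ U.ι) Q := ((Over.pullbackComp V.ι U.ι).app Q).symm
  let e' : Red.DS (V : Scheme.{u}) (Fin n → ℤ) ≅ Red.bc (V.ι ≫ U.ι) Q :=
    asIso (dsHom eb.toAddMonoidHom) ≪≫ e ≪≫ α
  haveI : IsMonHom e'.hom := Groth.Abvar.isMonHom_comp inferInstance
    (Groth.Abvar.isMonHom_comp he (Groth.Abvar.isMonHom_pullbackComp V.ι U.ι Q).1)
  refine ⟨(V.ι ≫ U.ι).opensRange, ⟨⟨⟨s, hsU⟩, hsV⟩, rfl⟩, n, ?_⟩
  obtain ⟨i'', hi''⟩ := exists_trivialisation_comp (M := Fin n → ℤ) Q (V.ι ≫ U.ι).isoOpensRange.inv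
    (V.ι ≫ U.ι) e'
  rw [← Scheme.Hom.isoOpensRange_inv_comp (V.ι ≫ U.ι)]
  exact ⟨(Grp.mkIso i'' hi''.one_hom hi''.mul_hom).symm⟩

/-- The quotient of a split torus by a subgroup of multiplicative type over a connected base is split. -/
theorem split_quotient [ConnectedSpace S] [IsMonHom q] [Mono i] (hH : SGA3x.IsMultTypeFT H) {r : ℕ}
    (hT : Red.IsSplitTorusWith (Fin r → ℤ) T)
    (hq : AlgGrp1.IsCover q) (hker : ∀ (Z : Over S) (x : Z ⟶ T), (∃ y, y ≫ i = x) ↔ x ≫ q = 1) :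
    ∃ r' : ℕ, r' ≤ r ∧ Red.IsSplitTorusWith (Fin r' → ℤ) Q := by
  obtain ⟨k, hk, hk'⟩ := exists_iso_of_split hT
  let i' : H ⟶ Red.DS S (Fin r → ℤ) := i ≫ k.hom
  obtain ⟨s⟩ : Nonempty S := inferInstance
  obtain ⟨V, hsV, hVc, Λ, hV⟩ := exists_clopen_kernel (fg_pi r) hH i' s
  have hVtop : V = ⊤ := TopologicalSpace.Opens.ext (IsClopen.eq_univ ⟨hVc, V.2⟩ ⟨s, hsV⟩)
  subst hVtop
  haveI : IsIso (⊤ : S.Opens).ι := by rw [← Scheme.topIso_hom]; infer_instance
  obtain ⟨e, he, -⟩ := exists_iso_of_ker_eq (isCover_dsHom_subtype (S := S) (fg_pi r) Λ)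
    (show AlgGrp1.IsCover (k.inv ≫ q) from (isCover_of_iso k.symm).comp hq) fun Z x => by
      rw [← Category.assoc, ← hker,
        ← hV Z (Over.homMk (Z.hom ≫ inv (⊤ : S.Opens).ι) (by simp)) x]
      constructor
      · rintro ⟨y, hy⟩; exact ⟨y, by rw [← hy]; simp [i']⟩
      · rintro ⟨y, hy⟩; exact ⟨y, by simp [i', reassoc_of% hy]⟩
  obtain ⟨n, ⟨b⟩⟩ := Submodule.nonempty_basis_of_pid (Pi.basisFun ℤ (Fin r)) Λ.toIntSubmodule
  let eb : Λ ≃+ (Fin n → ℤ) := (b.equivFun.toAddEquiv : Λ.toIntSubmodule ≃+ (Fin n → ℤ))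
  haveI : IsIso ((Over.forget _).map (dsHom (T := S) (eb.toAddMonoidHom))) := isIso_dsHom _ eb.bijective
  haveI : IsIso (dsHom (T := S) (eb.toAddMonoidHom)) := isIso_of_reflects_iso _ (Over.forget _)
  let e' : Red.DS S (Fin n → ℤ) ≅ Q := asIso (dsHom eb.toAddMonoidHom) ≪≫ e
  have he' : IsMonHom e'.hom := Groth.Abvar.isMonHom_comp inferInstance he
  refine ⟨n, ?_, ⟨(Grp.mkIso e' he'.one_hom he'.mul_hom).symm⟩⟩
  have h := (b.linearIndependent.map' Λ.toIntSubmodule.subtype (Submodule.ker_subtype _)).fintype_card_le_finrank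
  simpa using h

end Groth.Cochar

namespace Groth.Cochar

theorem split_bc_comp {S T U : Scheme.{u}} (g : T ⟶ U) (f : U ⟶ S) (X : Over S) [GrpObj X] (N : Type)
    [AddCommGroup N] :
    Red.IsSplitTorusWith N (Red.bc g (Red.bc f X)) ↔ Red.IsSplitTorusWith N (Red.bc (g ≫ f) X) := by
  let α : Red.bc (g ≫ f) X ≅ Red.bc g (Red.bc f X) := (Over.pullbackComp g f).app X
  have h : IsMonHom α.hom := (Groth.Abvar.isMonHom_pullbackComp g f X).2
  let β : Grp.mk (Red.bc (g ≫ f) X) ≅ Grp.mk (Red.bc g (Red.bc f X)) := Grp.mkIso α h.one_hom h.mul_hom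
  exact ⟨fun ⟨e⟩ => ⟨β ≪≫ e⟩, fun ⟨e⟩ => ⟨β.symm ≪≫ e⟩⟩

end Groth.Cochar
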