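import Groth.Agent.Hopf.Cochar.LocalImage

/-!
Images of locally split tori in groups of multiplicative type.
-/

set_option autoImplicit false
universe u

open CategoryTheory CategoryTheory.Limits MonoidalCategory CartesianMonoidalCategory MonObj GrpObj AlgebraicGeometry
open Groth.Reductive Groth.Reductive.FreeDiag Groth.Cochar.Img

noncomputable section

namespace Groth.Cochar

variable {S : Scheme.{u}}

/-- Locally on `S`, split with free character group. -/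
def LocSplit (H : Over S) [GrpObj H] : Prop :=
  ∀ s : S, ∃ U : S.Opens, s ∈ U ∧ ∃ (N : Type) (_ : AddCommGroup N), Module.Free ℤ N ∧ Module.Finite ℤ N ∧
    ∃ i : Red.DS (U : Scheme.{u}) N ≅ Red.bc U.ι H, IsMonHom i.hom

theorem locSplit_of_split {H : Over S} [GrpObj H]
    (h : ∀ s : S, ∃ U : S.Opens, s ∈ U ∧ ∃ r : ℕ, Red.IsSplitTorusWith (Fin r → ℤ) (Red.bc U.ι H)) :
    LocSplit H := fun s => by
  obtain ⟨U, hs, r, hr⟩ := h s
  obtain ⟨i, _, hi⟩ := exists_iso_of_split hr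
  exact ⟨U, hs, Fin r → ℤ, inferInstance, inferInstance, inferInstance, i.symm, hi⟩

theorem ImgAt.congr {H G : Over S} [GrpObj G] {f : H ⟶ G} {s : S} {N' N'' : Type} [AddCommGroup N']
    [AddCommGroup N''] (h : ImgAt f s N') (e : N' ≃+ N'') : ImgAt f s N'' := by
  obtain ⟨U, j, hj, d, c, hc, hs, hd, hcl, he⟩ := h
  let a : Red.DS U N'' ⟶ Red.DS U N' := dsHom e.toAddMonoidHom
  let b : Red.DS U N' ⟶ Red.DS U N'' := dsHom e.symm.toAddMonoidHom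
  have hba : b ≫ a = 𝟙 _ := by
    rw [dsHom_comp, ← dsHom_id]; congr 1; exact AddMonoidHom.ext e.symm_apply_apply
  haveI : IsIso a.left := isIso_dsHom _ e.bijective
  haveI : IsIso b.left := isIso_dsHom _ e.symm.bijective
  refine ⟨U, j, hj, d ≫ b, a ≫ c, Groth.Abvar.isMonHom_comp inferInstance hc, hs, ?_, ?_, ?_⟩
  · rw [Over.comp_left]; exact hd.comp (FQ.of_iso _)
  · rw [Over.comp_left]; infer_instance
  · rw [Category.assoc, reassoc_of% hba, he]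

variable {G : Over S} [GrpObj G]

/-- The image of a locally split torus in a group of multiplicative type is a locally split torus. -/
theorem exists_torus_image (hG : SGA3x.IsMultTypeFT G) {H : Over S} [GrpObj H] (hH : LocSplit H)
    (f : H ⟶ G) [IsMonHom f] :
    ∃ (K : Over S) (_ : GrpObj K) (i : K ⟶ G) (_ : IsMonHom i) (g : H ⟶ K) (_ : IsMonHom g),
      IsClosedImmersion i.left ∧ Mono i ∧ FQ g.left ∧ g ≫ i = f ∧
      ∀ s : S, ∃ U : S.Opens, s ∈ U ∧ ∃ r : ℕ, Red.IsSplitTorusWith (Fin r → ℤ) (Red.bc U.ι K) := by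
  obtain ⟨hGa, _, _⟩ := props hG
  have himg : ∀ s : S, ∃ r : ℕ, ImgAt f s (Fin r → ℤ) := by
    intro s
    obtain ⟨U, hs, N, _, _, hfin, i, hi⟩ := hH s
    haveI := hfin
    haveI : IsMonHom (i.hom ≫ (Over.pullback U.ι).map f) :=
      Groth.Abvar.isMonHom_comp hi (Groth.Abvar.isMonHom_map f)
    obtain ⟨Λ, hΛ⟩ := exists_imgAt (isMultTypeFT_bc hG U.ι) (Module.Finite.iff_addGroup_fg.mp hfin)
      (i.hom ≫ (Over.pullback U.ι).map f) ⟨s, hs⟩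
    obtain ⟨r, ⟨b⟩⟩ := Submodule.nonempty_basis_of_pid (Module.Free.chooseBasis ℤ N) Λ.toIntSubmodule
    exact ⟨r, ImgAt.of_restrict U.ι f ⟨s, hs⟩ ((ImgAt.precomp i _ _ hΛ).congr
      (b.equivFun.toAddEquiv : Λ.toIntSubmodule ≃+ (Fin r → ℤ)))⟩
  choose r U j hj d c hc hsj hd hcl hdc using himg
  haveI : IsAffineHom G.hom := hGa
  haveI : QuasiCompact H.hom := by
    choose V hsV N hN hfree hfin i hi using hH
    refine IsZariskiLocalAtTarget.of_openCover (S.openCoverOfIsOpenCover V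
      (TopologicalSpace.IsOpenCover.mk (by ext z; simpa using ⟨z, hsV z⟩))) fun s => ?_
    show QuasiCompact (Red.bc (V s).ι H).hom
    letI := hN s
    haveI : IsAffineHom (Red.DS (V s : Scheme.{u}) (N s)).hom :=
      (props (isMultTypeFT_DS (Module.Finite.iff_addGroup_fg.mp (hfin s)))).1
    haveI : IsIso (i s).inv.left := inferInstanceAs (IsIso ((Over.forget _).map (i s).inv))
    rw [← Over.w (i s).inv]
    infer_instance
  haveI : QuasiCompact (f.left ≫ G.hom) := by rw [Over.w]; infer_instance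
  haveI : QuasiCompact f.left := QuasiCompact.of_comp f.left G.hom
  obtain ⟨K, _, i, hi, g, hg, hicl, hgFQ, hgi, hloc⟩ := exists_image f fun s =>
    ⟨U s, j s, (haveI := hj s; inferInstance), _, d s, c s, hsj s, hd s, hcl s, hdc s⟩
  haveI := hicl
  haveI : Mono i.left := inferInstance
  have hmi : Mono i := Over.mono_of_mono_left i
  refine ⟨K, inferInstance, i, hi, g, hg, hicl, hmi, hgFQ, hgi, fun s => ?_⟩
  haveI := hj s
  haveI := hc s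
  obtain ⟨e, he⟩ := hloc (U s) (j s) _ (d s) (c s) (hd s) (hcl s) (hdc s)
  haveI : IsMonHom (M := Red.bc (j s) K) (N := Red.bc (j s) G) ((Over.pullback (j s)).map i) :=
    Groth.Abvar.isMonHom_map i
  haveI : IsMonHom e.hom := isMonHom_of_comp e.hom _ (c s) he
  refine ⟨(j s).opensRange, hsj s, r s, ?_⟩
  obtain ⟨i', hi'⟩ := exists_trivialisation_comp (M := Fin (r s) → ℤ) K (j s).isoOpensRange.inv (j s) e
  have heq : (j s).isoOpensRange.inv ≫ j s = (j s).opensRange.ι := Scheme.Hom.isoOpensRange_inv_comp _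
  rw [← heq]
  exact ⟨(Grp.mkIso i' hi'.one_hom hi'.mul_hom).symm⟩

/-- The product of two locally split groups is locally split. -/
theorem locSplit_tensor {E₁ E₂ : Over S} [GrpObj E₁] [GrpObj E₂]
    (h₁ : ∀ s : S, ∃ U : S.Opens, s ∈ U ∧ ∃ r : ℕ, Red.IsSplitTorusWith (Fin r → ℤ) (Red.bc U.ι E₁))
    (h₂ : ∀ s : S, ∃ U : S.Opens, s ∈ U ∧ ∃ r : ℕ, Red.IsSplitTorusWith (Fin r → ℤ) (Red.bc U.ι E₂)) :
    LocSplit (E₁ ⊗ E₂) := fun s => by
  obtain ⟨U₁, hs₁, r₁, hr₁⟩ := h₁ s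
  obtain ⟨U₂, hs₂, r₂, hr₂⟩ := h₂ s
  obtain ⟨k₁, hk₁, _⟩ := exists_iso_of_split hr₁
  obtain ⟨k₂, hk₂, _⟩ := exists_iso_of_split hr₂
  let U := U₁ ⊓ U₂
  have hres : ∀ (E : Over S) [GrpObj E] (V : S.Opens) (hV : U ≤ V) (r : ℕ)
      (k : Red.bc V.ι E ≅ Red.DS (V : Scheme.{u}) (Fin r → ℤ)), IsMonHom k.inv →
      ∃ i : Red.DS (U : Scheme.{u}) (Fin r → ℤ) ≅ Red.bc U.ι E, IsMonHom i.hom := by
    intro E _ V hV r k hk
    haveI : IsMonHom k.symm.hom := hk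
    obtain ⟨i, hi⟩ := exists_trivialisation_comp E (S.homOfLE hV) V.ι k.symm
    have h0 : ∃ i : Red.DS (U : Scheme.{u}) (Fin r → ℤ) ≅ Red.bc (S.homOfLE hV ≫ V.ι) E, IsMonHom i.hom :=
      ⟨i, hi⟩
    rwa [Scheme.homOfLE_ι] at h0
  obtain ⟨i₁, _⟩ := hres E₁ U₁ inf_le_left r₁ k₁ inferInstance
  obtain ⟨i₂, _⟩ := hres E₂ U₂ inf_le_right r₂ k₂ inferInstance
  let N := (Fin r₁ → ℤ) × (Fin r₂ → ℤ)
  have hNfg : AddGroup.FG N := Module.Finite.iff_addGroup_fg.mp inferInstance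
  let p₁ : Red.bc U.ι (E₁ ⊗ E₂) ⟶ Red.bc U.ι E₁ := (Over.pullback U.ι).map (fst E₁ E₂)
  let p₂ : Red.bc U.ι (E₁ ⊗ E₂) ⟶ Red.bc U.ι E₂ := (Over.pullback U.ι).map (snd E₁ E₂)
  haveI : IsMonHom p₁ := Groth.Abvar.isMonHom_map (fst E₁ E₂)
  haveI : IsMonHom p₂ := Groth.Abvar.isMonHom_map (snd E₁ E₂)
  have hn₁ : ∀ {Z : Over (U : Scheme.{u})} (z : Z ⟶ Red.bc U.ι (E₁ ⊗ E₂)),
      bcPointEquiv U.ι E₁ Z (z ≫ p₁) = bcPointEquiv U.ι (E₁ ⊗ E₂) Z z ≫ fst E₁ E₂ :=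
    fun z => (Over.mapPullbackAdj U.ι).homEquiv_naturality_right_symm z (fst E₁ E₂)
  have hn₂ : ∀ {Z : Over (U : Scheme.{u})} (z : Z ⟶ Red.bc U.ι (E₁ ⊗ E₂)),
      bcPointEquiv U.ι E₂ Z (z ≫ p₂) = bcPointEquiv U.ι (E₁ ⊗ E₂) Z z ≫ snd E₁ E₂ :=
    fun z => (Over.mapPullbackAdj U.ι).homEquiv_naturality_right_symm z (snd E₁ E₂)
  let a₁ : Red.DS (U : Scheme.{u}) N ⟶ Red.bc U.ι E₁ := dsHom (AddMonoidHom.inl _ _) ≫ i₁.hom
  let a₂ : Red.DS (U : Scheme.{u}) N ⟶ Red.bc U.ι E₂ := dsHom (AddMonoidHom.inr _ _) ≫ i₂.hom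
  let fwd : Red.DS (U : Scheme.{u}) N ⟶ Red.bc U.ι (E₁ ⊗ E₂) :=
    (bcPointEquiv U.ι (E₁ ⊗ E₂) _).symm (lift (bcPointEquiv U.ι E₁ _ a₁) (bcPointEquiv U.ι E₂ _ a₂))
  have hf₁ : fwd ≫ p₁ = a₁ := (bcPointEquiv U.ι E₁ _).injective (by
    rw [hn₁]; simp only [fwd, MulEquiv.apply_symm_apply, lift_fst])
  have hf₂ : fwd ≫ p₂ = a₂ := (bcPointEquiv U.ι E₂ _).injective (by
    rw [hn₂]; simp only [fwd, MulEquiv.apply_symm_apply, lift_snd])
  let b₁ : Red.bc U.ι (E₁ ⊗ E₂) ⟶ Red.DS (U : Scheme.{u}) N := p₁ ≫ i₁.inv ≫ dsHom (AddMonoidHom.fst _ _)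
  let b₂ : Red.bc U.ι (E₁ ⊗ E₂) ⟶ Red.DS (U : Scheme.{u}) N := p₂ ≫ i₂.inv ≫ dsHom (AddMonoidHom.snd _ _)
  let bwd := b₁ * b₂
  haveI : IsMonHom bwd := isMonHom_mul (isMultTypeFT_DS hNfg) b₁ b₂
  have hfb : fwd ≫ bwd = 𝟙 _ := by
    simp only [bwd, b₁, b₂, MonObj.comp_mul, reassoc_of% hf₁, reassoc_of% hf₂, a₁, a₂, Category.assoc,
      Iso.hom_inv_id_assoc, dsHom_comp, ← dsHom_add]
    rw [← dsHom_id]
    congr 1
    exact AddMonoidHom.ext fun x => Prod.ext (add_zero _) (zero_add _)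
  have e11 : (AddMonoidHom.fst (Fin r₁ → ℤ) (Fin r₂ → ℤ)).comp (AddMonoidHom.inl _ _) = AddMonoidHom.id _ :=
    AddMonoidHom.ext fun _ => rfl
  have e21 : (AddMonoidHom.snd (Fin r₁ → ℤ) (Fin r₂ → ℤ)).comp (AddMonoidHom.inl _ _) = 0 :=
    AddMonoidHom.ext fun _ => rfl
  have e12 : (AddMonoidHom.fst (Fin r₁ → ℤ) (Fin r₂ → ℤ)).comp (AddMonoidHom.inr _ _) = 0 :=
    AddMonoidHom.ext fun _ => rfl
  have e22 : (AddMonoidHom.snd (Fin r₁ → ℤ) (Fin r₂ → ℤ)).comp (AddMonoidHom.inr _ _) = AddMonoidHom.id _ :=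
    AddMonoidHom.ext fun _ => rfl
  have hbf : bwd ≫ fwd = 𝟙 _ := by
    have h1 : bwd ≫ a₁ = p₁ := by
      simp only [bwd, b₁, b₂, a₁, MonObj.mul_comp, Category.assoc, reassoc_of% dsHom_comp,
        e11, e21, dsHom_id, dsHom_zero, Category.id_comp,
        Iso.inv_hom_id, MonObj.one_comp, MonObj.comp_one, Category.comp_id, _root_.mul_one]
    have h2 : bwd ≫ a₂ = p₂ := by
      simp only [bwd, b₁, b₂, a₂, MonObj.mul_comp, Category.assoc, reassoc_of% dsHom_comp,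
        e12, e22, dsHom_id, dsHom_zero, Category.id_comp,
        Iso.inv_hom_id, MonObj.one_comp, MonObj.comp_one, Category.comp_id, _root_.one_mul]
    apply (bcPointEquiv U.ι (E₁ ⊗ E₂) _).injective
    apply CartesianMonoidalCategory.hom_ext
    · rw [← hn₁, ← hn₁, Category.assoc, hf₁, h1, Category.id_comp]
    · rw [← hn₂, ← hn₂, Category.assoc, hf₂, h2, Category.id_comp]
  let ψ : Red.bc U.ι (E₁ ⊗ E₂) ≅ Red.DS (U : Scheme.{u}) N := ⟨bwd, fwd, hbf, hfb⟩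
  haveI : IsIso bwd := ⟨fwd, hbf, hfb⟩
  haveI : IsMonHom fwd := isMonHom_of_comp fwd bwd (𝟙 _) hfb
  exact ⟨U, ⟨hs₁, hs₂⟩, N, inferInstance, inferInstance, inferInstance, ψ.symm, ‹IsMonHom fwd›⟩

end Groth.Cochar
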